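import Mathlib.AlgebraicGeometry.AffineTransitionLimit
import Mathlib.AlgebraicGeometry.Morphisms.QuasiSeparated
import Groth.Prelude.Def_ActBC
import Groth.Agent.Ega43.LimitDescend

/-!
# Morphisms over a cofiltered limit of bases

`D : I ⥤ Scheme` is a cofiltered system of quasi-compact quasi-separated schemes with affine transition
morphisms, `c` a limit cone.

* `exists_map_eq`: two morphisms `X ⟶ Y` of `D.obj j`-schemes (`X` quasi-compact, `Y` locally of finite type)
  with the same base change to `c.pt` have the same base change to some `D.obj i`.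
* `exists_map_eq_of`: a morphism between the base changes to `c.pt` is the base change of a morphism
  between the base changes to some `D.obj i`.
-/

set_option autoImplicit false
set_option backward.isDefEq.respectTransparency false
set_option backward.defeqAttrib.useBackward true
universe u
open CategoryTheory CategoryTheory.Limits MonoidalCategory CartesianMonoidalCategory MonObj GrpObj AlgebraicGeometry

namespace K210.LimHom

/-- `bcCompIso` in terms of Mathlib's `Over.pullbackComp`. -/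
theorem bcCompIso_eq {S S' S'' : Scheme.{u}} (f : S'' ⟶ S') (g : S' ⟶ S) {d : S'' ⟶ S} (h : f ≫ g = d)
    (X : Over S) :
    ActBC.bcCompIso f g X h =
      ((Over.pullbackComp f g).app X).symm ≪≫ eqToIso (congrArg (fun g => Red.bc g X) h) := by
  subst h
  ext1
  rw [ActBC.bcCompIso_hom_eq_pullbackComp_inv]
  simp

/-- Morphisms into a base change are determined by the first projection. -/
theorem bc_hom_ext {S S' : Scheme.{u}} (f : S' ⟶ S) {T : Over S'} {Y : Over S} {a b : T ⟶ Red.bc f Y}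
    (h : a.left ≫ pullback.fst Y.hom f = b.left ≫ pullback.fst Y.hom f) : a = b := by
  ext
  apply pullback.hom_ext
  · exact h
  · exact (Over.w a).trans (Over.w b).symm

/-- The morphism into a base change with given first projection. -/
noncomputable def toBc {S S' : Scheme.{u}} (f : S' ⟶ S) {T : Over S'} {Y : Over S} (a : T.left ⟶ Y.left)
    (h : a ≫ Y.hom = T.hom ≫ f) : T ⟶ Red.bc f Y :=
  Over.homMk (pullback.lift a T.hom h) (by simp)

@[reassoc]
theorem toBc_left_fst {S S' : Scheme.{u}} (f : S' ⟶ S) {T : Over S'} {Y : Over S} (a : T.left ⟶ Y.left)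
    (h : a ≫ Y.hom = T.hom ≫ f) : (toBc f a h).left ≫ pullback.fst Y.hom f = a := by
  simp [toBc]

/-- Base changes of two morphisms agree iff they agree after the first projection. -/
theorem map_eq_map_iff {S S' : Scheme.{u}} (f : S' ⟶ S) {X Y : Over S} (a b : X ⟶ Y) :
    (Over.pullback f).map a = (Over.pullback f).map b ↔
      pullback.fst X.hom f ≫ a.left = pullback.fst X.hom f ≫ b.left := by
  constructor
  · intro h
    rw [← ActBC.pullback_map_left_fst, ← ActBC.pullback_map_left_fst, h]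
  · intro h
    apply bc_hom_ext
    rw [ActBC.pullback_map_left_fst, ActBC.pullback_map_left_fst, h]

/-- Base changes along `f ≫ g` agree if base changes along `g` agree. -/
theorem map_comp_eq_map_comp {S S' S'' : Scheme.{u}} (f : S'' ⟶ S') (g : S' ⟶ S) {X Y : Over S} (a b : X ⟶ Y)
    (h : (Over.pullback g).map a = (Over.pullback g).map b) :
    (Over.pullback (f ≫ g)).map a = (Over.pullback (f ≫ g)).map b := by
  rw [map_eq_map_iff] at h ⊢
  obtain ⟨l, hl⟩ : ∃ l : pullback X.hom (f ≫ g) ⟶ pullback X.hom g,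
      pullback.fst X.hom (f ≫ g) = l ≫ pullback.fst X.hom g :=
    ⟨pullback.lift (pullback.fst X.hom (f ≫ g)) (pullback.snd X.hom (f ≫ g) ≫ f)
      (by rw [pullback.condition, Category.assoc]), (pullback.lift_fst _ _ _).symm⟩
  rw [hl, Category.assoc, Category.assoc, h]

/-- Associativity of the identification of iterated base changes. -/
theorem bcCompIso_assoc {S S₁ S₂ S₃ : Scheme.{u}} (f₃ : S₃ ⟶ S₂) (f₂ : S₂ ⟶ S₁) (f₁ : S₁ ⟶ S)
    {a : S₃ ⟶ S₁} (ha : f₃ ≫ f₂ = a) {b : S₂ ⟶ S} (hb : f₂ ≫ f₁ = b) {d : S₃ ⟶ S} (hd : a ≫ f₁ = d)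
    (hd' : f₃ ≫ b = d) (X : Over S) :
    (Over.pullback f₃).map (ActBC.bcCompIso f₂ f₁ X hb).hom ≫ (ActBC.bcCompIso f₃ b X hd').hom =
      (ActBC.bcCompIso f₃ f₂ (Red.bc f₁ X) ha).hom ≫ (ActBC.bcCompIso a f₁ X hd).hom := by
  apply bc_hom_ext
  rw [Over.comp_left, Over.comp_left, Category.assoc, Category.assoc, ActBC.bcCompIso_hom_left_fst,
    ActBC.bcCompIso_hom_left_fst, ActBC.pullback_map_left_fst_assoc, ActBC.bcCompIso_hom_left_fst_assoc,
    ActBC.bcCompIso_hom_left_fst]

/-- The base change along `g` of a morphism between base changes along `f`, as a morphism between base changes along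
the composite. -/
noncomputable def mv {S S₁ S₂ : Scheme.{u}} (g : S₂ ⟶ S₁) (f : S₁ ⟶ S) {d : S₂ ⟶ S} (h : g ≫ f = d) {X Y : Over S}
    (v : Red.bc f X ⟶ Red.bc f Y) : Red.bc d X ⟶ Red.bc d Y :=
  (ActBC.bcCompIso g f X h).inv ≫ (Over.pullback g).map v ≫ (ActBC.bcCompIso g f Y h).hom

theorem map_eq_iff_mv {S S₁ S₂ : Scheme.{u}} (g : S₂ ⟶ S₁) (f : S₁ ⟶ S) {d : S₂ ⟶ S} (h : g ≫ f = d) {X Y : Over S}
    (v : Red.bc f X ⟶ Red.bc f Y) (u : Red.bc d X ⟶ Red.bc d Y) :
    (Over.pullback g).map v = (ActBC.bcCompIso g f X h).hom ≫ u ≫ (ActBC.bcCompIso g f Y h).inv ↔ mv g f h v = u := by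
  rw [mv, Iso.inv_comp_eq, ← Iso.eq_comp_inv, Category.assoc]

theorem mv_mv {S S₁ S₂ S₃ : Scheme.{u}} (f₃ : S₃ ⟶ S₂) (f₂ : S₂ ⟶ S₁) (f₁ : S₁ ⟶ S)
    {a : S₃ ⟶ S₁} (ha : f₃ ≫ f₂ = a) {b : S₂ ⟶ S} (hb : f₂ ≫ f₁ = b) {d : S₃ ⟶ S} (hd : a ≫ f₁ = d)
    (hd' : f₃ ≫ b = d) {X Y : Over S} (v : Red.bc f₁ X ⟶ Red.bc f₁ Y) :
    mv f₃ b hd' (mv f₂ f₁ hb v) = mv a f₁ hd v := by
  rw [← map_eq_iff_mv, mv, Functor.map_comp, Functor.map_comp, ← cancel_mono (ActBC.bcCompIso f₃ b Y hd').hom]
  simp only [Category.assoc, Iso.inv_hom_id, Category.comp_id]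
  rw [bcCompIso_assoc f₃ f₂ f₁ ha hb hd hd', ActBC.bcCompIso_hom_naturality_assoc, mv]
  have h1 := bcCompIso_assoc f₃ f₂ f₁ ha hb hd hd' X
  have h2 : (Over.pullback f₃).map (ActBC.bcCompIso f₂ f₁ X hb).inv ≫ (ActBC.bcCompIso f₃ f₂ (Red.bc f₁ X) ha).hom =
      (ActBC.bcCompIso f₃ b X hd').hom ≫ (ActBC.bcCompIso a f₁ X hd).inv := by
    rw [Iso.eq_comp_inv, Category.assoc, ← h1, ← Functor.map_comp_assoc, Iso.inv_hom_id]
    simp
  rw [reassoc_of% h2]

instance isMonHom_mv {S S₁ S₂ : Scheme.{u}} (g : S₂ ⟶ S₁) (f : S₁ ⟶ S) {d : S₂ ⟶ S} (h : g ≫ f = d) {X Y : Over S}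
    [GrpObj X] [GrpObj Y] (v : Red.bc f X ⟶ Red.bc f Y) [IsMonHom ((Over.pullback g).map v)] : IsMonHom (mv g f h v) := by
  unfold mv
  infer_instance

section Mon

variable {S S' : Scheme.{u}} (f : S' ⟶ S) {G H : Over S}

/-- A morphism of group objects compatible with the multiplications is a homomorphism. -/
theorem isMonHom_of_mul [GrpObj G] [GrpObj H] (v : G ⟶ H) (h : μ[G] ≫ v = (v ⊗ₘ v) ≫ μ[H]) : IsMonHom v where
  mul_hom := h
  one_hom := by
    have h1 : (1 : 𝟙_ (Over S) ⟶ G) = η := by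
      rw [Hom.one_def, toUnit_unique (toUnit _) (𝟙 _), Category.id_comp]
    have h1' : (1 : 𝟙_ (Over S) ⟶ H) = η := by
      rw [Hom.one_def, toUnit_unique (toUnit _) (𝟙 _), Category.id_comp]
    have hx : (η ≫ v) * (η ≫ v) = (η ≫ v) * 1 := by
      rw [_root_.mul_one, Hom.mul_def, ← lift_map_assoc, ← h, ← Category.assoc, ← Hom.mul_def, ← h1,
        _root_.mul_one]
    rw [← h1']
    exact mul_left_cancel hx

theorem isMonHom_map_iff [GrpObj G] [GrpObj H] (v : G ⟶ H) :
    IsMonHom ((Over.pullback f).map v) ↔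
      (Over.pullback f).map (μ[G] ≫ v) = (Over.pullback f).map ((v ⊗ₘ v) ≫ μ[H]) := by
  have key : (μ[Red.bc f G] ≫ (Over.pullback f).map v =
      ((Over.pullback f).map v ⊗ₘ (Over.pullback f).map v) ≫ μ[Red.bc f H]) ↔
      (Over.pullback f).map (μ[G] ≫ v) = (Over.pullback f).map ((v ⊗ₘ v) ≫ μ[H]) := by
    rw [Functor.obj.μ_def, Functor.obj.μ_def, Functor.LaxMonoidal.μ_natural_assoc, Category.assoc,
      cancel_epi, Functor.map_comp, Functor.map_comp]
  rw [← key]
  exact ⟨fun h => h.mul_hom, fun h => isMonHom_of_mul _ h⟩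

end Mon

section Inst

variable {S S' : Scheme.{u}} (f : S' ⟶ S) (X Y : Over S)

scoped instance lfp_bc [LocallyOfFinitePresentation X.hom] : LocallyOfFinitePresentation (Red.bc f X).hom :=
  inferInstanceAs (LocallyOfFinitePresentation (pullback.snd X.hom f))

scoped instance lft_bc [LocallyOfFiniteType X.hom] : LocallyOfFiniteType (Red.bc f X).hom :=
  inferInstanceAs (LocallyOfFiniteType (pullback.snd X.hom f))

scoped instance qc_bc [QuasiCompact X.hom] : QuasiCompact (Red.bc f X).hom :=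
  inferInstanceAs (QuasiCompact (pullback.snd X.hom f))

scoped instance qs_bc [QuasiSeparated X.hom] : QuasiSeparated (Red.bc f X).hom :=
  inferInstanceAs (QuasiSeparated (pullback.snd X.hom f))

scoped instance flat_bc [Flat X.hom] : Flat (Red.bc f X).hom :=
  inferInstanceAs (Flat (pullback.snd X.hom f))

scoped instance lfp_tensor [LocallyOfFinitePresentation X.hom] [LocallyOfFinitePresentation Y.hom] :
    LocallyOfFinitePresentation (X ⊗ Y).hom :=
  inferInstanceAs (LocallyOfFinitePresentation (pullback.fst X.hom Y.hom ≫ X.hom))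

scoped instance lft_tensor [LocallyOfFiniteType X.hom] [LocallyOfFiniteType Y.hom] :
    LocallyOfFiniteType (X ⊗ Y).hom :=
  inferInstanceAs (LocallyOfFiniteType (pullback.fst X.hom Y.hom ≫ X.hom))

scoped instance qc_tensor [QuasiCompact X.hom] [QuasiCompact Y.hom] : QuasiCompact (X ⊗ Y).hom :=
  inferInstanceAs (QuasiCompact (pullback.fst X.hom Y.hom ≫ X.hom))

scoped instance qs_tensor [QuasiSeparated X.hom] [QuasiSeparated Y.hom] : QuasiSeparated (X ⊗ Y).hom :=
  inferInstanceAs (QuasiSeparated (pullback.fst X.hom Y.hom ≫ X.hom))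

scoped instance flat_tensor [Flat X.hom] [Flat Y.hom] : Flat (X ⊗ Y).hom :=
  inferInstanceAs (Flat (pullback.fst X.hom Y.hom ≫ X.hom))

end Inst

open Groth.Agent.Ega43.LimitDescend

variable {I : Type u} [SmallCategory I] [IsCofiltered I]
    {D : I ⥤ Scheme.{u}} {c : Cone D} (hc : IsLimit c)
    [∀ (i i' : I) (f : i ⟶ i'), IsAffineHom (D.map f)]

include hc

/-- Two morphisms of `D.obj j`-schemes with the same base change to the limit have the same base change to some
stage. -/
theorem exists_map_eq [∀ i, CompactSpace (D.obj i)] {j : I} {X Y : Over (D.obj j)} [QuasiCompact X.hom]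
    [LocallyOfFiniteType Y.hom] (a b : X ⟶ Y)
    (h : (Over.pullback (c.π.app j)).map a = (Over.pullback (c.π.app j)).map b) :
    ∃ (i : I) (f : i ⟶ j), (Over.pullback (D.map f)).map a = (Over.pullback (D.map f)).map b := by
  let t : ∀ i : Over j, (Over.forget j ⋙ D).obj i ⟶ D.obj j := fun i ↦ D.map i.hom
  have ht : ∀ {i i' : Over j} (φ : i ⟶ i'), (Over.forget j ⋙ D).map φ ≫ t i' = t i :=
    fun φ ↦ overT_w D j φ
  have hp : ∀ i, (overCone c j).π.app i ≫ t i = c.π.app j := fun i ↦ by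
    simp [t]
  have hl := isLimitPbCone t ht X.hom (overCone c j) (c.π.app j) hp (pullback.fst X.hom (c.π.app j))
    (pullback.snd X.hom (c.π.app j)) (.of_hasPullback _ _) (isLimitOverCone c hc j)
  let τ : pbDiagram t ht X.hom ⟶ (Functor.const _).obj (D.obj j) :=
    toConst (fun i ↦ pullback.fst X.hom (t i) ≫ X.hom) (fun φ ↦ by
      rw [← Category.assoc, pbDiagram_map_fst])
  have : ∀ i, CompactSpace ((pbDiagram t ht X.hom).obj i) := fun i ↦ by
    dsimp
    exact QuasiCompact.compactSpace_of_compactSpace (pullback.snd X.hom (t i))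
  obtain ⟨k, φ, hk⟩ := Scheme.exists_hom_comp_eq_comp_of_locallyOfFiniteType (pbDiagram t ht X.hom) τ Y.hom _ hl
    (i := Over.mk (𝟙 j)) (pullback.fst X.hom (t (Over.mk (𝟙 j))) ≫ a.left)
      (pullback.fst X.hom (t (Over.mk (𝟙 j))) ≫ b.left)
      (by simp [τ]) (by simp [τ])
      (by
        rw [← Category.assoc, ← Category.assoc, pbCone_π_fst]
        exact (map_eq_map_iff _ _ _).mp h)
  refine ⟨k.left, k.hom, (map_eq_map_iff _ _ _).mpr ?_⟩
  rw [← Category.assoc, ← Category.assoc, pbDiagram_map_fst] at hk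
  exact hk

/-- A morphism between the base changes to the limit descends to some stage. -/
theorem exists_map_eq_of [∀ i, CompactSpace (D.obj i)] [∀ i, QuasiSeparatedSpace (D.obj i)]
    {j : I} (X Y : Over (D.obj j)) [QuasiCompact X.hom] [QuasiSeparated X.hom]
    [LocallyOfFinitePresentation Y.hom] (u : Red.bc (c.π.app j) X ⟶ Red.bc (c.π.app j) Y) :
    ∃ (i : I) (f : i ⟶ j) (v : Red.bc (D.map f) X ⟶ Red.bc (D.map f) Y),
      (Over.pullback (c.π.app i)).map v = (ActBC.bcCompIso (c.π.app i) (D.map f) X (c.w f)).hom ≫ u ≫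
        (ActBC.bcCompIso (c.π.app i) (D.map f) Y (c.w f)).inv := by
  let t : ∀ i : Over j, (Over.forget j ⋙ D).obj i ⟶ D.obj j := fun i ↦ D.map i.hom
  have ht : ∀ {i i' : Over j} (φ : i ⟶ i'), (Over.forget j ⋙ D).map φ ≫ t i' = t i :=
    fun φ ↦ overT_w D j φ
  have hp : ∀ i, (overCone c j).π.app i ≫ t i = c.π.app j := fun i ↦ by
    simp [t]
  have hl := isLimitPbCone t ht X.hom (overCone c j) (c.π.app j) hp (pullback.fst X.hom (c.π.app j))
    (pullback.snd X.hom (c.π.app j)) (.of_hasPullback _ _) (isLimitOverCone c hc j)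
  let τ : pbDiagram t ht X.hom ⟶ (Functor.const _).obj (D.obj j) :=
    toConst (fun i ↦ pullback.fst X.hom (t i) ≫ X.hom) (fun φ ↦ by
      rw [← Category.assoc, pbDiagram_map_fst])
  have : ∀ i, CompactSpace ((pbDiagram t ht X.hom).obj i) := fun i ↦ by
    dsimp
    exact QuasiCompact.compactSpace_of_compactSpace (pullback.snd X.hom (t i))
  have : ∀ i, QuasiSeparatedSpace ((pbDiagram t ht X.hom).obj i) := fun i ↦ by
    dsimp
    exact quasiSeparatedSpace_of_quasiSeparated (pullback.snd X.hom (t i))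
  obtain ⟨k, g, hg, hg'⟩ := Scheme.exists_π_app_comp_eq_of_locallyOfFinitePresentation
    (pbDiagram t ht X.hom) τ Y.hom _ hl (u.left ≫ pullback.fst Y.hom (c.π.app j))
      (by
        ext i : 2
        have h1 := Over.w u
        dsimp [τ] at h1 ⊢
        rw [Category.assoc, pullback.condition (f := Y.hom), reassoc_of% h1, pullback.lift_fst_assoc,
          pullback.condition])
  refine ⟨k.left, k.hom, toBc (D.map k.hom) g (hg'.trans pullback.condition), ?_⟩
  rw [← Category.assoc, Iso.eq_comp_inv]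
  apply bc_hom_ext
  rw [Over.comp_left, Over.comp_left, Category.assoc, ActBC.bcCompIso_hom_left_fst, Category.assoc, ← hg,
    ActBC.pullback_map_left_fst_assoc, toBc_left_fst]
  rw [← Category.assoc]
  congr 1
  apply pullback.hom_ext
  · rw [Category.assoc, pbCone_π_fst, ActBC.bcCompIso_hom_left_fst]
  · rw [Category.assoc, pbCone_π_snd]
    exact pullback.condition.trans
      (ActBC.bcCompIso_hom_left_snd_assoc (c.π.app k.left) (D.map k.hom) X (c.w k.hom) _).symm

end K210.LimHom
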