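import Groth.Prelude.Def_ComodSub
import Groth.Agent.ComodSub.K892.DualFp
import Mathlib.RingTheory.Finiteness.Projective
import Mathlib.LinearAlgebra.Matrix.Determinant.Basic
import Mathlib.RingTheory.Adjoin.Basic

/-!
# Matrix corepresentations from comodules with finite projective dual

* `exists_matrix`: a left comodule `P` over a bialgebra `A`, finite and projective over `R`, gives a multiplicative
  matrix whose entries generate an algebra containing all coefficients of `P`.
* `exists_det_inv`: the determinant of a multiplicative matrix over a commutative Hopf algebra is a unit.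
* `exists_matrix_of_hom`: comodule maps `N ⟶ A` for a finitely presented comodule `N` with projective dual.
-/

set_option autoImplicit false
universe u v w
open TensorProduct

namespace K210.LMatrix

section

variable {R : Type u} [CommRing R] {A : Type v} [Ring A] [Algebra R A] {P : Type w} [AddCommGroup P]
  [Module R P]

/-- Coefficients of an element of `A ⊗ P`. -/
noncomputable def cf (φ : Module.Dual R P) : A ⊗[R] P →ₗ[R] A :=
  (TensorProduct.rid R A).toLinearMap ∘ₗ φ.lTensor A

@[simp] theorem cf_tmul (φ : Module.Dual R P) (a : A) (p : P) : cf φ (a ⊗ₜ[R] p) = φ p • a := by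
  simp [cf]

end

variable {R : Type u} [CommRing R] {A : Type v} [Ring A] [Bialgebra R A] {P : Type w} [AddCommGroup P]
  [Module R P]

omit [Ring A] [Bialgebra R A] in
theorem expand_aux {A : Type v} [Ring A] [Algebra R A] (x y : A) (r t : R) :
    (x + r • (1 : A)) ⊗ₜ[R] (y + t • (1 : A)) = x ⊗ₜ[R] y + (t • x) ⊗ₜ[R] (1 : A) + (1 : A) ⊗ₜ[R] (r • y) +
      (r * t) • ((1 : A) ⊗ₜ[R] (1 : A)) := by
  rw [TensorProduct.add_tmul, TensorProduct.tmul_add, TensorProduct.tmul_add, TensorProduct.tmul_smul,
    TensorProduct.tmul_smul, TensorProduct.tmul_smul, ← TensorProduct.smul_tmul', ← TensorProduct.smul_tmul',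
    ← TensorProduct.smul_tmul', smul_smul, mul_comm t r]
  abel

theorem exists_matrix (l : ComodSub.LComod R A P) [Module.Finite R P] [Module.Projective R P] :
    ∃ (d : ℕ) (a : Matrix (Fin d) (Fin d) A),
      (∀ i j, CoalgebraStruct.comul (R := R) (a i j) = ∑ l, a i l ⊗ₜ[R] a l j) ∧
      (∀ i j, CoalgebraStruct.counit (R := R) (a i j) = if i = j then 1 else 0) ∧
      ∀ (g : P) (φ : Module.Dual R P),
        cf φ (l.coact g) ∈ Algebra.adjoin R (Set.range fun p : Fin d × Fin d => a p.1 p.2) := by
  classical
  obtain ⟨d, s, t, -, -, hst⟩ := Module.Finite.exists_comp_eq_id_of_projective R P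
  -- dual basis
  let f : Fin d → P := fun i => s (Pi.single i 1)
  let φ : Fin d → Module.Dual R P := fun i => LinearMap.proj i ∘ₗ t
  have hdb : ∀ p : P, ∑ i, φ i p • f i = p := by
    intro p
    have h1 : t p = ∑ i, (t p i) • (Pi.single i (1 : R) : Fin d → R) := by
      ext j
      simp [Finset.sum_apply, Pi.single_apply]
    calc ∑ i, φ i p • f i = s (∑ i, (t p i) • (Pi.single i (1 : R) : Fin d → R)) := by
          simp [φ, f, map_sum, map_smul]
      _ = s (t p) := by rw [← h1]
      _ = p := LinearMap.congr_fun hst p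
  let c : Fin d → Fin d → A := fun i j => cf (φ j) (l.coact (f i))
  let E : Fin d → Fin d → R := fun i j => φ j (f i)
  -- expansions
  have hexp : ∀ x : A ⊗[R] P, ∑ j, cf (φ j) x ⊗ₜ[R] f j = x := by
    intro x
    induction x using TensorProduct.induction_on with
    | zero => simp
    | add x y hx hy => simp only [map_add, TensorProduct.add_tmul, Finset.sum_add_distrib, hx, hy]
    | tmul a p =>
      simp only [cf_tmul, TensorProduct.smul_tmul]
      rw [← TensorProduct.tmul_sum, hdb]
  have hl : ∀ i, l.coact (f i) = ∑ j, c i j ⊗ₜ[R] f j := fun i => (hexp _).symm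
  have hcE : ∀ i k, ∑ j, E j k • c i j = c i k := by
    intro i k
    have h1 := congrArg (cf (φ k)) (hl i)
    simp only [map_sum, cf_tmul] at h1
    exact h1.symm
  have hEf : ∀ i, ∑ j, E i j • f j = f i := fun i => hdb (f i)
  have hEc : ∀ i k, ∑ j, E i j • c j k = c i k := by
    intro i k
    have h1 := congrArg (fun x => cf (φ k) (l.coact x)) (hEf i)
    simp only [map_sum, map_smul] at h1
    exact h1
  have hEE : ∀ i k, ∑ j, E i j * E j k = E i k := by
    intro i k
    have h1 := congrArg (φ k) (hEf i)
    simp only [map_sum, map_smul, smul_eq_mul] at h1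
    exact h1
  -- comultiplication of `c`
  have hcomul : ∀ i k, CoalgebraStruct.comul (R := R) (c i k) = ∑ j, c i j ⊗ₜ[R] c j k := by
    intro i k
    have h1 := LinearMap.congr_fun l.coassoc (f i)
    simp only [LinearMap.coe_comp, Function.comp_apply, LinearEquiv.coe_coe] at h1
    rw [hl i] at h1
    simp only [map_sum, LinearMap.lTensor_tmul, LinearMap.rTensor_tmul] at h1
    let ev : A ⊗[R] (A ⊗[R] P) →ₗ[R] A ⊗[R] A := (cf (φ k)).lTensor A
    have hev : ∀ (y : A ⊗[R] A) (p : P), ev (TensorProduct.assoc R A A P (y ⊗ₜ[R] p)) = φ k p • y := by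
      intro y p
      induction y using TensorProduct.induction_on with
      | zero => simp
      | add x y hx hy => simp only [TensorProduct.add_tmul, map_add, hx, hy, smul_add]
      | tmul a b =>
        simp only [ev, TensorProduct.assoc_tmul, LinearMap.lTensor_tmul, cf_tmul, TensorProduct.tmul_smul]
    have h2 := congrArg ev h1
    simp only [map_sum, hev] at h2
    have h3 : ∀ j, ev (c i j ⊗ₜ[R] l.coact (f j)) = c i j ⊗ₜ[R] c j k := by
      intro j
      simp [ev, c]
    simp only [h3] at h2
    rw [h2]
    conv_lhs => rw [← hcE i k]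
    rw [map_sum]
    exact Finset.sum_congr rfl fun j _ => by rw [map_smul]
  have hcounit : ∀ i k, CoalgebraStruct.counit (R := R) (c i k) = E i k := by
    intro i k
    have h1 := LinearMap.congr_fun l.counit_comp (f i)
    simp only [LinearMap.coe_comp, Function.comp_apply, TensorProduct.mk_apply] at h1
    rw [hl i] at h1
    simp only [map_sum, LinearMap.rTensor_tmul] at h1
    have h2 := congrArg (fun x => φ k (TensorProduct.lid R P x)) h1
    simp only [map_sum, TensorProduct.lid_tmul, map_smul, smul_eq_mul, one_smul] at h2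
    change _ = E i k at h2
    rw [← h2]
    conv_lhs => rw [← hcE i k]
    rw [map_sum]
    exact Finset.sum_congr rfl fun j _ => by rw [map_smul, smul_eq_mul, mul_comm]
  let δ : Fin d → Fin d → R := fun i j => if i = j then 1 else 0
  let a : Matrix (Fin d) (Fin d) A := fun i j => c i j + (δ i j - E i j) • (1 : A)
  have hδl : ∀ (i k : Fin d) (x : Fin d → R), ∑ j, δ i j * x j = x i := by
    intro i k x
    simp [δ]
  refine ⟨d, a, ?_, ?_, ?_⟩
  · intro i k
    have e1 : CoalgebraStruct.comul (R := R) (a i k) = ∑ j, c i j ⊗ₜ[R] c j k +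
        (δ i k - E i k) • ((1 : A) ⊗ₜ[R] (1 : A)) := by
      simp only [a, map_add, map_smul, hcomul, Bialgebra.comul_one, Algebra.TensorProduct.one_def]
    have e2 : ∀ j, a i j ⊗ₜ[R] a j k = c i j ⊗ₜ[R] c j k + ((δ j k - E j k) • c i j) ⊗ₜ[R] (1 : A) +
        (1 : A) ⊗ₜ[R] ((δ i j - E i j) • c j k) +
        ((δ i j - E i j) * (δ j k - E j k)) • ((1 : A) ⊗ₜ[R] (1 : A)) := by
      intro j
      exact expand_aux _ _ _ _
    have e3 : ∑ j, (δ j k - E j k) • c i j = 0 := by
      simp only [sub_smul, Finset.sum_sub_distrib, hcE]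
      simp [δ]
    have e4 : ∑ j, (δ i j - E i j) • c j k = 0 := by
      simp only [sub_smul, Finset.sum_sub_distrib, hEc]
      simp [δ]
    have e5 : ∑ j, (δ i j - E i j) * (δ j k - E j k) = δ i k - E i k := by
      have e6 : ∀ j, (δ i j - E i j) * (δ j k - E j k) =
          δ i j * δ j k - δ i j * E j k - E i j * δ j k + E i j * E j k := fun j => by ring
      simp only [e6, Finset.sum_add_distrib, Finset.sum_sub_distrib, hEE]
      simp [δ]
    rw [e1]
    simp only [e2, Finset.sum_add_distrib]
    rw [← TensorProduct.sum_tmul, ← TensorProduct.tmul_sum, e3, e4, TensorProduct.zero_tmul,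
      TensorProduct.tmul_zero, add_zero, add_zero, ← Finset.sum_smul, e5]
  · intro i j
    simp [a, hcounit, δ, Bialgebra.counit_one]
  · have hc : ∀ i j, c i j ∈ Algebra.adjoin R (Set.range fun p : Fin d × Fin d => a p.1 p.2) := by
      intro i j
      have e1 : c i j = a i j - (δ i j - E i j) • (1 : A) := by simp [a]
      rw [e1]
      exact sub_mem (Algebra.subset_adjoin ⟨(i, j), rfl⟩) (Subalgebra.smul_mem _ (one_mem _) _)
    intro g ψ
    have h1 : cf ψ (l.coact g) = ∑ i, ∑ j, (φ i g * ψ (f j)) • c i j := by
      conv_lhs => rw [← hdb g]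
      simp only [map_sum, map_smul, hl, cf_tmul, Finset.smul_sum, mul_smul]
    rw [h1]
    exact sum_mem fun i _ => sum_mem fun j _ => Subalgebra.smul_mem _ (hc i j) _

section Hopf

variable {R : Type u} [CommRing R] {A : Type v} [CommRing A] [HopfAlgebra R A]

/-- The determinant of a multiplicative matrix over a commutative Hopf algebra is a unit. -/
theorem exists_det_inv {d : ℕ} (a : Matrix (Fin d) (Fin d) A)
    (h₁ : ∀ i j, CoalgebraStruct.comul (R := R) (a i j) = ∑ l, a i l ⊗ₜ[R] a l j)
    (h₂ : ∀ i j, CoalgebraStruct.counit (R := R) (a i j) = if i = j then 1 else 0) :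
    ∃ u : A, u * a.det = 1 := by
  let b : Matrix (Fin d) (Fin d) A := fun i j => HopfAlgebraStruct.antipode (R := R) (a i j)
  have hba : b * a = 1 := by
    ext i j
    rw [Matrix.mul_apply, Matrix.one_apply]
    have h := HopfAlgebra.mul_antipode_rTensor_comul_apply (R := R) (a i j)
    rw [h₁, h₂, map_sum, map_sum] at h
    simp only [LinearMap.rTensor_tmul, LinearMap.mul'_apply] at h
    rw [show (∑ l, b i l * a l j) = ∑ l, (HopfAlgebraStruct.antipode (R := R) (a i l)) * a l j from rfl, h]
    split_ifs <;> simp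
  exact ⟨b.det, by rw [← Matrix.det_mul, hba, Matrix.det_one]⟩

/-- Comodule maps from a finitely presented comodule with projective dual to `A` take values in the algebra generated
by the entries of a multiplicative matrix. -/
theorem exists_matrix_of_hom [Module.Flat R A] {N : Type w} [AddCommGroup N] [Module R N]
    [Module.FinitePresentation R N] (c : HopfRep.Comod R A N) [Module.Finite R (Module.Dual R N)]
    [Module.Projective R (Module.Dual R N)] :
    ∃ (d : ℕ) (a : Matrix (Fin d) (Fin d) A),
      (∀ i j, CoalgebraStruct.comul (R := R) (a i j) = ∑ l, a i l ⊗ₜ[R] a l j) ∧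
      (∀ i j, CoalgebraStruct.counit (R := R) (a i j) = if i = j then 1 else 0) ∧
      (∃ u : A, u * a.det = 1) ∧
      ∀ (ψ : N →ₗ[R] A), CoalgebraStruct.comul (R := R) ∘ₗ ψ = ψ.rTensor A ∘ₗ c.coact →
        ∀ n, ψ n ∈ Algebra.adjoin R (Set.range fun p : Fin d × Fin d => a p.1 p.2) := by
  obtain ⟨l, hl⟩ := K892.DualFp.exists_ldual c
  obtain ⟨d, a, h1, h2, h3⟩ := exists_matrix l
  refine ⟨d, a, h1, h2, exists_det_inv a h1 h2, fun ψ hψ n => ?_⟩
  have h4 := h3 (CoalgebraStruct.counit (R := R) ∘ₗ ψ) (Module.Dual.eval R N n)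
  have h5 : ∀ x : A ⊗[R] Module.Dual R N, cf (Module.Dual.eval R N n) x =
      dualTensorHom R N A (TensorProduct.comm R A (Module.Dual R N) x) n := by
    intro x
    induction x using TensorProduct.induction_on with
    | zero => simp
    | add x y hx hy => simp only [map_add, LinearMap.add_apply, hx, hy]
    | tmul a φ => simp
  have h6 : ψ n = ComodSub.ldualFun c (CoalgebraStruct.counit (R := R) ∘ₗ ψ) n := by
    rw [ComodSub.ldualFun_apply, LinearMap.rTensor_comp, LinearMap.comp_apply]
    have h7 := LinearMap.congr_fun hψ n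
    simp only [LinearMap.coe_comp, Function.comp_apply] at h7
    rw [← h7, Coalgebra.rTensor_counit_comul, TensorProduct.lid_tmul, one_smul]
  rw [h5, hl, ← h6] at h4
  exact h4

end Hopf

end K210.LMatrix
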