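import Groth.Agent.SGA3.K210.LMatrix
import Groth.Prelude.Def_ComodSub
import Mathlib.LinearAlgebra.TensorProduct.RightExactness
import Mathlib.RingTheory.Flat.Basic

/-!
# Bidual comodules, cofree comodules and pull backs

* `exists_rdual`: the right dual of a finite projective left comodule.
* `exists_hom_bidual`: a comodule map `N ⟶ E` with `N` finitely presented, `N^*` finite projective and `E` flat extends
  to the bidual.
* `cofree`: the comodule `L ⊗ C`.
* `isSubcomod_comap`: preimages of subcomodules (flat coalgebra).
* `pb`: the pull back of the coaction `F ⟶ F ⊗ C` along `L ⊗ C ⟶ F ⊗ C`, a subcomodule of `L ⊗ C` mapping onto `F`.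
-/

set_option autoImplicit false
universe u v w w'
open TensorProduct

namespace K210.ComodRes

open LMatrix HopfRep

section RDual

variable {R : Type u} [CommRing R] {C : Type v} [AddCommGroup C] [Module R C] [Coalgebra R C]
  {P : Type w} [AddCommGroup P] [Module R P]

/-- Coefficients of an element of `C ⊗ P`. -/
noncomputable def cf' (φ : Module.Dual R P) : C ⊗[R] P →ₗ[R] C :=
  (TensorProduct.rid R C).toLinearMap ∘ₗ φ.lTensor C

omit [Coalgebra R C] in
@[simp] theorem cf'_tmul (φ : Module.Dual R P) (a : C) (p : P) : cf' φ (a ⊗ₜ[R] p) = φ p • a := by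
  simp [cf']

/-- A dual basis. -/
theorem exists_dual_basis [Module.Finite R P] [Module.Projective R P] :
    ∃ (d : ℕ) (f : Fin d → P) (φ : Fin d → Module.Dual R P), ∀ p : P, ∑ i, φ i p • f i = p := by
  classical
  obtain ⟨d, s, t, -, -, hst⟩ := Module.Finite.exists_comp_eq_id_of_projective R P
  refine ⟨d, fun i => s (Pi.single i 1), fun i => LinearMap.proj i ∘ₗ t, fun p => ?_⟩
  have h1 : t p = ∑ i, (t p i) • (Pi.single i (1 : R) : Fin d → R) := by
    ext j
    simp [Finset.sum_apply, Pi.single_apply]
  calc ∑ i, (LinearMap.proj i ∘ₗ t) p • s (Pi.single i 1)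
      = s (∑ i, (t p i) • (Pi.single i (1 : R) : Fin d → R)) := by simp [map_sum, map_smul]
    _ = s (t p) := by rw [← h1]
    _ = p := LinearMap.congr_fun hst p

theorem cf'_comul (l : ComodSub.LComod R C P) (ξ : Module.Dual R P) (p : P) :
    CoalgebraStruct.comul (R := R) (cf' ξ (l.coact p)) =
      ((cf' ξ ∘ₗ l.coact).lTensor C) (l.coact p) := by
  have h1 := LinearMap.congr_fun l.coassoc p
  simp only [LinearMap.coe_comp, Function.comp_apply, LinearEquiv.coe_coe] at h1
  have h2 := congrArg ((cf' ξ).lTensor C) h1
  rw [← LinearMap.comp_apply, ← LinearMap.lTensor_comp] at h2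
  rw [h2]
  generalize l.coact p = x
  induction x using TensorProduct.induction_on with
  | zero => simp
  | add x y hx hy => simp only [map_add, hx, hy]
  | tmul a q =>
    rw [cf'_tmul, map_smul, LinearMap.rTensor_tmul]
    generalize CoalgebraStruct.comul (R := R) a = y
    induction y using TensorProduct.induction_on with
    | zero => simp
    | add x y hx hy => simp only [TensorProduct.add_tmul, map_add, smul_add, hx, hy]
    | tmul a b => simp [TensorProduct.tmul_smul]

theorem cf'_counit (l : ComodSub.LComod R C P) (ξ : Module.Dual R P) (p : P) :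
    CoalgebraStruct.counit (R := R) (cf' ξ (l.coact p)) = ξ p := by
  have h1 := LinearMap.congr_fun l.counit_comp p
  simp only [LinearMap.coe_comp, Function.comp_apply, TensorProduct.mk_apply] at h1
  have h2 := congrArg (fun x => ξ (TensorProduct.lid R P x)) h1
  simp only [TensorProduct.lid_tmul, one_smul] at h2
  rw [← h2]
  generalize l.coact p = x
  induction x using TensorProduct.induction_on with
  | zero => simp
  | add x y hx hy => simp only [map_add, hx, hy]
  | tmul a q => simp [mul_comm]

/-- The right dual of a finite projective left comodule. -/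
theorem exists_rdual [Module.Finite R P] [Module.Projective R P] (l : ComodSub.LComod R C P) :
    ∃ c : Comod R C (Module.Dual R P), ∀ (ξ : Module.Dual R P) (p : P),
      dualTensorHom R P C (c.coact ξ) p = cf' ξ (l.coact p) := by
  obtain ⟨d, f, φ, hdb⟩ := exists_dual_basis (R := R) (P := P)
  have hdb' : ∀ ξ : Module.Dual R P, ∑ i, ξ (f i) • φ i = ξ := by
    intro ξ
    ext p
    conv_rhs => rw [← hdb p]
    simp only [LinearMap.coe_sum, Finset.sum_apply, LinearMap.smul_apply, smul_eq_mul, map_sum, map_smul]
    exact Finset.sum_congr rfl fun i _ => mul_comm _ _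
  have cf'_add : ∀ (ξ η : Module.Dual R P) (x : C ⊗[R] P), cf' (ξ + η) x = cf' ξ x + cf' η x := by
    intro ξ η x
    simp [cf', LinearMap.lTensor_add]
  have cf'_smul : ∀ (r : R) (ξ : Module.Dual R P) (x : C ⊗[R] P), cf' (r • ξ) x = r • cf' ξ x := by
    intro r ξ x
    simp [cf', LinearMap.lTensor_smul]
  let co : Module.Dual R P →ₗ[R] Module.Dual R P ⊗[R] C :=
    { toFun := fun ξ => ∑ j, φ j ⊗ₜ[R] cf' ξ (l.coact (f j))
      map_add' := fun ξ η => by
        simp only [cf'_add, TensorProduct.tmul_add, Finset.sum_add_distrib]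
      map_smul' := fun r ξ => by
        simp only [cf'_smul, TensorProduct.tmul_smul, ← Finset.smul_sum, RingHom.id_apply] }
  have hexp : ∀ x : C ⊗[R] P, ∑ j, cf' (φ j) x ⊗ₜ[R] f j = x := by
    intro x
    induction x using TensorProduct.induction_on with
    | zero => simp
    | add x y hx hy => simp only [map_add, TensorProduct.add_tmul, Finset.sum_add_distrib, hx, hy]
    | tmul a p =>
      simp only [cf'_tmul, TensorProduct.smul_tmul]
      rw [← TensorProduct.tmul_sum, hdb]
  refine ⟨⟨co, ?_, ?_⟩, ?_⟩
  · refine LinearMap.ext fun ξ => ?_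
    simp only [LinearMap.coe_comp, Function.comp_apply, LinearEquiv.coe_coe]
    change TensorProduct.assoc R _ C C (co.rTensor C (∑ j, φ j ⊗ₜ[R] cf' ξ (l.coact (f j)))) =
      (CoalgebraStruct.comul (R := R) (A := C)).lTensor (Module.Dual R P) (∑ j, φ j ⊗ₜ[R] cf' ξ (l.coact (f j)))
    simp only [map_sum, LinearMap.rTensor_tmul, LinearMap.lTensor_tmul, cf'_comul]
    have h1 : ∀ j, TensorProduct.assoc R _ C C (co (φ j) ⊗ₜ[R] cf' ξ (l.coact (f j))) =
        ∑ i, φ i ⊗ₜ[R] (cf' (φ j) (l.coact (f i)) ⊗ₜ[R] cf' ξ (l.coact (f j))) := by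
      intro j
      change TensorProduct.assoc R _ C C ((∑ i, φ i ⊗ₜ[R] cf' (φ j) (l.coact (f i))) ⊗ₜ[R] cf' ξ (l.coact (f j))) = _
      rw [TensorProduct.sum_tmul, map_sum]
      rfl
    simp only [h1]
    rw [Finset.sum_comm]
    refine Finset.sum_congr rfl fun i _ => ?_
    rw [← TensorProduct.tmul_sum]
    congr 1
    conv_rhs => rw [← hexp (l.coact (f i))]
    simp only [map_sum, LinearMap.lTensor_tmul, LinearMap.comp_apply]
  · refine LinearMap.ext fun ξ => ?_
    simp only [LinearMap.coe_comp, Function.comp_apply, LinearMap.flip_apply, TensorProduct.mk_apply]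
    change (CoalgebraStruct.counit (R := R) (A := C)).lTensor (Module.Dual R P)
      (∑ j, φ j ⊗ₜ[R] cf' ξ (l.coact (f j))) = _
    simp only [map_sum, LinearMap.lTensor_tmul, cf'_counit]
    conv_rhs => rw [← hdb' ξ]
    rw [TensorProduct.sum_tmul]
    refine Finset.sum_congr rfl fun i _ => ?_
    rw [TensorProduct.smul_tmul, smul_eq_mul, mul_one]
  · intro ξ p
    change dualTensorHom R P C (∑ j, φ j ⊗ₜ[R] cf' ξ (l.coact (f j))) p = _
    simp only [map_sum, LinearMap.coe_sum, Finset.sum_apply, dualTensorHom_apply]
    conv_rhs => rw [← hdb p]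
    simp only [map_sum, map_smul]

end RDual

section Bidual

variable {R : Type u} [CommRing R] {C : Type v} [AddCommGroup C] [Module R C] [Coalgebra R C] [Module.Flat R C]

omit [Coalgebra R C] in
theorem flat_tensor {E : Type w} [AddCommGroup E] [Module R E] [Module.Flat R E] : Module.Flat R (E ⊗[R] C) :=
  inferInstance

/-- A comodule map `i : N ⟶ E`, with `E` flat and `N` finitely presented with finite projective dual, extends to a
comodule map from a finite projective comodule (the bidual of `N`). -/
theorem exists_hom_bidual {N : Type w} [AddCommGroup N] [Module R N] [Module.FinitePresentation R N]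
    (cN : Comod R C N) [Module.Finite R (Module.Dual R N)] [Module.Projective R (Module.Dual R N)]
    {E : Type w'} [AddCommGroup E] [Module R E] [Module.Flat R E] (cE : Comod R C E) (i : N →ₗ[R] E)
    (hi : cE.coact ∘ₗ i = i.rTensor C ∘ₗ cN.coact) :
    ∃ (c : Comod R C (Module.Dual R (Module.Dual R N))) (φ : Module.Dual R (Module.Dual R N) →ₗ[R] E),
      cE.coact ∘ₗ φ = φ.rTensor C ∘ₗ c.coact ∧ ∀ n, φ (Module.Dual.eval R N n) = i n := by
  obtain ⟨l, hl⟩ := K892.DualFp.exists_ldual cN
  obtain ⟨c, hc⟩ := exists_rdual l
  obtain ⟨d, f, φ, hdb⟩ := exists_dual_basis (R := R) (P := Module.Dual R N)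
  obtain ⟨z, hz⟩ := (K892.DualFp.bijective_dualTensorHom R N E).2 i
  -- the map on the bidual
  let Φ : Module.Dual R (Module.Dual R N) →ₗ[R] E :=
    { toFun := fun ξ => TensorProduct.lid R E (ξ.rTensor E z)
      map_add' := fun ξ η => by simp [LinearMap.rTensor_add]
      map_smul' := fun r ξ => by simp [LinearMap.rTensor_smul] }
  let x : Fin d → E := fun j => Φ (φ j)
  have hev : ∀ (B : Type w') [AddCommGroup B] [Module R B] (y : Module.Dual R N ⊗[R] B) (n : N),
      TensorProduct.lid R B ((Module.Dual.eval R N n).rTensor B y) = dualTensorHom R N B y n := by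
    intro B _ _ y n
    induction y using TensorProduct.induction_on with
    | zero => simp
    | add x y hx hy => simp only [map_add, LinearMap.add_apply, hx, hy]
    | tmul a b => simp
  have hzx : z = ∑ j, f j ⊗ₜ[R] x j := by
    have : ∀ y : Module.Dual R N ⊗[R] E,
        y = ∑ j, f j ⊗ₜ[R] TensorProduct.lid R E ((φ j).rTensor E y) := by
      intro y
      induction y using TensorProduct.induction_on with
      | zero => simp
      | add x y hx hy =>
        simp only [map_add, TensorProduct.tmul_add, Finset.sum_add_distrib]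
        rw [← hx, ← hy]
      | tmul p e =>
        simp only [LinearMap.rTensor_tmul, TensorProduct.lid_tmul]
        conv_lhs => rw [← hdb p]
        rw [TensorProduct.sum_tmul]
        exact Finset.sum_congr rfl fun j _ => TensorProduct.smul_tmul _ _ _
    exact this z
  have hΦ : ∀ ξ, Φ ξ = ∑ j, ξ (f j) • x j := by
    intro ξ
    change TensorProduct.lid R E (ξ.rTensor E z) = _
    rw [hzx]
    simp
  have hin : ∀ n, i n = ∑ j, f j n • x j := by
    intro n
    rw [← hz, hzx]
    simp [map_sum]
  -- the comodule identity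
  have key : ∀ ξ : Module.Dual R (Module.Dual R N), ∑ k, ξ (f k) • cE.coact (x k) =
      ∑ j, x j ⊗ₜ[R] cf' ξ (l.coact (f j)) := by
    have hinj := (K892.DualFp.bijective_dualTensorHom R N (E ⊗[R] C)).1
    -- coefficients with respect to the dual basis
    let b : Fin d → Fin d → C := fun j k => cf' (φ k) (l.coact (f j))
    have hlf : ∀ j, l.coact (f j) = ∑ k, b j k ⊗ₜ[R] f k := by
      intro j
      have : ∀ y : C ⊗[R] Module.Dual R N, y = ∑ k, cf' (φ k) y ⊗ₜ[R] f k := by
        intro y
        induction y using TensorProduct.induction_on with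
        | zero => simp
        | add x y hx hy =>
          simp only [map_add, TensorProduct.add_tmul, Finset.sum_add_distrib]
          rw [← hx, ← hy]
        | tmul a p =>
          simp only [cf'_tmul, TensorProduct.smul_tmul]
          rw [← TensorProduct.tmul_sum, hdb]
      exact this _
    have h1 : (∑ k, f k ⊗ₜ[R] cE.coact (x k) : Module.Dual R N ⊗[R] (E ⊗[R] C)) =
        ∑ k, f k ⊗ₜ[R] ∑ j, x j ⊗ₜ[R] b j k := by
      apply hinj
      refine LinearMap.ext fun n => ?_
      simp only [map_sum, LinearMap.coe_sum, Finset.sum_apply, dualTensorHom_apply]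
      have h2 := LinearMap.congr_fun hi n
      simp only [LinearMap.coe_comp, Function.comp_apply] at h2
      have h3 : ∑ k, f k n • cE.coact (x k) = cE.coact (i n) := by
        rw [hin, map_sum]
        simp only [map_smul]
      rw [h3, h2]
      have h4 : ∀ y : N ⊗[R] C, i.rTensor C y = ∑ j, x j ⊗ₜ[R] TensorProduct.lid R C ((f j).rTensor C y) := by
        intro y
        induction y using TensorProduct.induction_on with
        | zero => simp
        | add x y hx hy => simp only [map_add, TensorProduct.tmul_add, Finset.sum_add_distrib, hx, hy]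
        | tmul m a =>
          simp only [LinearMap.rTensor_tmul, TensorProduct.lid_tmul]
          rw [hin, TensorProduct.sum_tmul]
          exact Finset.sum_congr rfl fun j _ => TensorProduct.smul_tmul _ _ _
      rw [h4]
      have h5 : ∀ j, TensorProduct.lid R C ((f j).rTensor C (cN.coact n)) = ∑ k, f k n • b j k := by
        intro j
        rw [← ComodSub.ldualFun_apply, ← hl, hlf]
        simp [map_sum]
      simp only [h5, TensorProduct.tmul_sum, TensorProduct.tmul_smul, Finset.smul_sum]
      rw [Finset.sum_comm]
    intro ξ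
    have h6 := congrArg (fun y => TensorProduct.lid R (E ⊗[R] C) (ξ.rTensor (E ⊗[R] C) y)) h1
    simp only [map_sum, LinearMap.rTensor_tmul, TensorProduct.lid_tmul] at h6
    rw [h6]
    simp only [Finset.smul_sum]
    rw [Finset.sum_comm]
    refine Finset.sum_congr rfl fun j _ => ?_
    rw [hlf j]
    simp only [map_sum, cf'_tmul, TensorProduct.tmul_sum, TensorProduct.tmul_smul]
  refine ⟨c, Φ, ?_, ?_⟩
  · refine LinearMap.ext fun ξ => ?_
    simp only [LinearMap.coe_comp, Function.comp_apply]
    rw [hΦ, map_sum]
    simp only [map_smul]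
    rw [key ξ]
    have h7 : ∀ y : Module.Dual R (Module.Dual R N) ⊗[R] C,
        Φ.rTensor C y = ∑ j, x j ⊗ₜ[R] dualTensorHom R (Module.Dual R N) C y (f j) := by
      intro y
      induction y using TensorProduct.induction_on with
      | zero => simp
      | add x y hx hy =>
        simp only [map_add, LinearMap.add_apply, TensorProduct.tmul_add, Finset.sum_add_distrib, hx, hy]
      | tmul η a =>
        simp only [LinearMap.rTensor_tmul, dualTensorHom_apply]
        rw [hΦ, TensorProduct.sum_tmul]
        exact Finset.sum_congr rfl fun j _ => TensorProduct.smul_tmul _ _ _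
    rw [h7]
    simp only [hc]
  · intro n
    change TensorProduct.lid R E ((Module.Dual.eval R N n).rTensor E z) = i n
    rw [hev, hz]

end Bidual

end K210.ComodRes
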