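import Groth.Agent.SGA3.K210.ComodPb
import Groth.Agent.SGA3.K210.SecondSyz
import Mathlib.LinearAlgebra.Finsupp.Supported

/-!
# Projectivity of pull backs of coactions

* `projective_pb`: if `C`, `L` and the kernel of the surjection `p : L ⟶ F` are projective then so is `pb c p`.
* `projective_ker'`: kernels of maps from finite projective modules to projective modules, over a regular ring of
  dimension at most two.
-/

set_option autoImplicit false
universe u
open TensorProduct CategoryTheory

namespace K210.PbProj

open ComodPb HopfRep

variable {R : Type u} [CommRing R]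

/-- A module which is the kernel of a surjection from a projective module onto a module with a projective
presentation of length one is projective. -/
theorem projective_of_exact {P M : Type u} [AddCommGroup P] [Module R P] [AddCommGroup M] [Module R M]
    [Module.Projective R P] (hM : HasProjectiveDimensionLT (ModuleCat.of R M) 2) (f : P →ₗ[R] M)
    (hf : Function.Surjective f) : Module.Projective R (LinearMap.ker f) := by
  let S : ShortComplex (ModuleCat.{u} R) := ShortComplex.mk
    (ModuleCat.ofHom (LinearMap.ker f).subtype) (ModuleCat.ofHom f) (by
      ext x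
      exact x.2)
  have hS : S.ShortExact :=
    { exact := by
        rw [ShortComplex.ShortExact.moduleCat_exact_iff_function_exact]
        exact LinearMap.exact_subtype_ker_map _
      mono_f := by
        rw [ModuleCat.mono_iff_injective]
        exact Submodule.injective_subtype _
      epi_g := by
        rw [ModuleCat.epi_iff_surjective]
        exact hf }
  have hP : Projective (ModuleCat.of R P) := (IsProjective.iff_projective P).mp inferInstance
  have h2 : HasProjectiveDimensionLT (ModuleCat.of R (LinearMap.ker f)) 1 :=
    (hS.hasProjectiveDimensionLT_X₃_iff 0 hP).mp hM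
  rw [← projective_iff_hasProjectiveDimensionLT_one] at h2
  exact (IsProjective.iff_projective _).mpr h2

/-- A module with a projective presentation of length one has projective dimension at most one. -/
theorem pd_lt_two {K P M : Type u} [AddCommGroup K] [Module R K] [AddCommGroup P] [Module R P] [AddCommGroup M]
    [Module R M] [Module.Projective R K] [Module.Projective R P] (i : K →ₗ[R] P) (f : P →ₗ[R] M)
    (hi : Function.Injective i) (hif : Function.Exact i f)
    (hf : Function.Surjective f) : HasProjectiveDimensionLT (ModuleCat.of R M) 2 := by
  let S : ShortComplex (ModuleCat.{u} R) := ShortComplex.mk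
    (ModuleCat.ofHom i) (ModuleCat.ofHom f) (by
      ext x
      exact (hif (i x)).2 ⟨x, rfl⟩)
  have hS : S.ShortExact :=
    { exact := by
        rw [ShortComplex.ShortExact.moduleCat_exact_iff_function_exact]
        exact hif
      mono_f := by
        rw [ModuleCat.mono_iff_injective]
        exact hi
      epi_g := by
        rw [ModuleCat.epi_iff_surjective]
        exact hf }
  have hP : Projective (ModuleCat.of R P) := (IsProjective.iff_projective P).mp inferInstance
  have hK : HasProjectiveDimensionLT (ModuleCat.of R K) 1 := by
    rw [← projective_iff_hasProjectiveDimensionLT_one]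
    exact (IsProjective.iff_projective K).mp inferInstance
  exact (hS.hasProjectiveDimensionLT_X₃_iff 0 hP).mpr hK

variable {C : Type u} [AddCommGroup C] [Module R C] [Coalgebra R C] [Module.Projective R C]

theorem projective_pb {L F : Type u} [AddCommGroup L] [Module R L] [Module.Projective R L] [AddCommGroup F]
    [Module R F] (c : Comod R C F) (p : L →ₗ[R] F) (hp : Function.Surjective p)
    [Module.Projective R (LinearMap.ker p)] : Module.Projective R (pb c p) := by
  -- the projective dimension of `F ⊗ C`
  have hM : HasProjectiveDimensionLT (ModuleCat.of R (F ⊗[R] C)) 2 :=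
    pd_lt_two ((LinearMap.ker p).subtype.rTensor C) (p.rTensor C)
      (Module.Flat.rTensor_preserves_injective_linearMap _ (Submodule.injective_subtype _))
      (rTensor_exact C (LinearMap.exact_subtype_ker_map p) hp)
      (LinearMap.rTensor_surjective C hp)
  let r : F ⊗[R] C →ₗ[R] F := (TensorProduct.rid R F).toLinearMap ∘ₗ (CoalgebraStruct.counit (R := R) (A := C)).lTensor F
  have hr : ∀ y, r (c.coact y) = y := counit_coact c
  -- the complement
  have hM₂ : HasProjectiveDimensionLT (ModuleCat.of R (LinearMap.ker r)) 2 := by
    let e : F ⊗[R] C →ₗ[R] LinearMap.ker r :=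
      (LinearMap.id - c.coact ∘ₗ r).codRestrict (LinearMap.ker r) (fun x => by
        simp only [LinearMap.mem_ker, LinearMap.sub_apply, LinearMap.id_apply, LinearMap.comp_apply, map_sub, hr,
          sub_self])
    have he : e ∘ₗ (LinearMap.ker r).subtype = LinearMap.id := by
      refine LinearMap.ext fun x => Subtype.ext ?_
      have hx : r (x : F ⊗[R] C) = 0 := x.2
      change (x : F ⊗[R] C) - c.coact (r (x : F ⊗[R] C)) = x
      rw [hx, map_zero, sub_zero]
    have ret : Retract (ModuleCat.of R (LinearMap.ker r)) (ModuleCat.of R (F ⊗[R] C)) :=
      { i := ModuleCat.ofHom (LinearMap.ker r).subtype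
        r := ModuleCat.ofHom e
        retract := by
          rw [← ModuleCat.ofHom_comp, he]
          rfl }
    exact ret.hasProjectiveDimensionLT 2
  let g : L ⊗[R] C →ₗ[R] LinearMap.ker r :=
    ((LinearMap.id - c.coact ∘ₗ r) ∘ₗ p.rTensor C).codRestrict (LinearMap.ker r) (fun x => by
      simp only [LinearMap.mem_ker, LinearMap.sub_apply, LinearMap.id_apply, LinearMap.comp_apply, map_sub, hr,
        sub_self])
  have hg : Function.Surjective g := by
    rintro ⟨y, hy⟩
    obtain ⟨x, hx⟩ := LinearMap.rTensor_surjective C hp y
    refine ⟨x, Subtype.ext ?_⟩
    have hy' : r y = 0 := hy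
    change p.rTensor C x - c.coact (r (p.rTensor C x)) = y
    rw [hx, hy', map_zero, sub_zero]
  have hker : LinearMap.ker g = pb c p := by
    ext x
    constructor
    · intro hx
      have h1 : p.rTensor C x - c.coact (r (p.rTensor C x)) = 0 := congrArg Subtype.val hx
      exact ⟨r (p.rTensor C x), (sub_eq_zero.mp h1).symm⟩
    · rintro ⟨y, hy⟩
      refine Subtype.ext ?_
      change p.rTensor C x - c.coact (r (p.rTensor C x)) = 0
      rw [← hy, hr, sub_self]
  have h := projective_of_exact hM₂ g hg
  rwa [hker] at h

omit [Coalgebra R C] [Module.Projective R C] in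
/-- Kernels of maps from finite modules to projective modules. -/
theorem projective_ker' [IsRegularRing R] (hdim : ringKrullDim R ≤ 2) {M N : Type u}
    [AddCommGroup M] [Module R M] [AddCommGroup N] [Module R N] [Module.Finite R M]
    [Module.Projective R M] [Module.Projective R N] (f : M →ₗ[R] N) : Module.Projective R (LinearMap.ker f) := by
  classical
  -- embed `N` in a free module
  obtain ⟨s, hs⟩ := (Module.projective_def' (R := R) (P := N)).mp inferInstance
  have hsinj : Function.Injective s := LinearMap.injective_of_comp_eq_id _ _ hs
  obtain ⟨S, hS⟩ := (inferInstance : Module.Finite R M).fg_top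
  let T : Finset N := S.sup fun m => (s (f m)).support
  have hT : ∀ m, s (f m) ∈ Finsupp.supported R R (T : Set N) := by
    intro m
    have h1 : Submodule.span R (S : Set M) ≤ (Finsupp.supported R R (T : Set N)).comap (s ∘ₗ f) := by
      rw [Submodule.span_le]
      intro x hx
      change s (f x) ∈ Finsupp.supported R R (T : Set N)
      rw [Finsupp.mem_supported]
      exact_mod_cast Finset.le_sup (f := fun m => (s (f m)).support) hx
    rw [hS] at h1
    exact h1 (Submodule.mem_top (x := m))
  let q : (N →₀ R) →ₗ[R] (T → R) := LinearMap.pi fun t => Finsupp.lapply (t : N)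
  have hq : LinearMap.ker f = LinearMap.ker (q ∘ₗ s ∘ₗ f) := by
    ext m
    constructor
    · intro hm
      have : f m = 0 := hm
      simp [this]
    · intro hm
      have h1 : ∀ t ∈ T, s (f m) t = 0 := fun t ht => congrFun hm ⟨t, ht⟩
      have h2 : s (f m) = 0 := by
        ext t
        by_cases ht : t ∈ T
        · exact h1 t ht
        · have h3 := (Finsupp.mem_supported R (s (f m))).mp (hT m)
          by_contra h4
          exact ht (by exact_mod_cast h3 (Finsupp.mem_support_iff.mpr h4))
      exact hsinj (by rw [h2, map_zero])
  rw [hq]
  exact K210.SecondSyz.projective_ker hdim _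

end K210.PbProj
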