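import Groth.Agent.SGA3.K210.LimHom2
import Groth.Agent.S0079
import Groth.Agent.S0114
import Groth.Agent.Ega43.LimitDescendCompare
import Groth.Agent.Ega43.LimSurj
import Groth.Agent.Sga3.H515.LimSmooth
import Mathlib.CategoryTheory.Limits.Constructions.Over.Connected

/-!
# Representable quotients over a cofiltered limit of bases

* `quasiCompact_of_quot`, `quasiSeparated_of_quot`: a quotient `p : X ⟶ Y` of a quasi-compact quasi-separated scheme
  by a quasi-compact equivalence relation is quasi-compact and quasi-separated.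
* `isPullback_map_iff`: cartesian squares over a base change in terms of an isomorphism.
* `exists_quot`: a quotient over the limit, with models of everything at a stage, is a quotient at some later stage.
* `HasQuot s t`: there is a flat, surjective, locally finitely presented `p : X ⟶ Y` with `R = X ×_Y X`.
* `hasQuot_of_map`, `hasQuot_limit_iff`.
-/

set_option autoImplicit false
set_option backward.isDefEq.respectTransparency false
set_option backward.defeqAttrib.useBackward true
universe u
open CategoryTheory CategoryTheory.Limits MonoidalCategory CartesianMonoidalCategory MonObj GrpObj AlgebraicGeometry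

namespace K210.LimQuot

open LimHom Groth.Agent.Ega43.LimitDescend Groth.Agent.Sga3.H515.GrpModel

section Quot

variable {X Y R S : Scheme.{u}}

theorem quasiCompact_of_quot (p : X ⟶ Y) (q : Y ⟶ S) [hs : Surjective p] [h : QuasiCompact (p ≫ q)] :
    QuasiCompact q := by
  constructor
  intro U hU hUc
  have h1 := h.isCompact_preimage U hU hUc
  have h2 : q ⁻¹' U = p '' ((p ≫ q) ⁻¹' U) := by
    ext y
    constructor
    · intro hy
      obtain ⟨x, rfl⟩ := hs.surj y
      exact ⟨x, by simpa using hy, rfl⟩
    · rintro ⟨x, hx, rfl⟩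
      simpa using hx
  rw [h2]
  exact h1.image p.continuous

theorem quasiSeparated_of_quot (p : X ⟶ Y) (q : Y ⟶ S) (s t : R ⟶ X) (h : IsPullback s t p p) [Surjective p]
    [Flat p] [LocallyOfFinitePresentation p] [QuasiSeparated (p ≫ q)] [QuasiCompact (s ≫ p ≫ q)] :
    QuasiSeparated q := by
  refine ⟨?_⟩
  let m := pullback.map p p (p ≫ q) (p ≫ q) (𝟙 X) (𝟙 X) q (Category.id_comp _).symm (Category.id_comp _).symm
  have hm : QuasiCompact m := by
    have h1 : m ≫ pullback.fst (p ≫ q) (p ≫ q) ≫ p ≫ q = h.isoPullback.inv ≫ s ≫ p ≫ q := by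
      simp [m]
    have h2 : QuasiCompact (m ≫ pullback.fst (p ≫ q) (p ≫ q) ≫ p ≫ q) := by
      rw [h1]
      infer_instance
    exact QuasiCompact.of_comp m (pullback.fst (p ≫ q) (p ≫ q) ≫ p ≫ q)
  have := Groth.Agent.S0079.result.{u}
  refine MorphismProperty.of_isPullback_of_descendsAlong (P := @QuasiCompact)
    (Q := @Surjective ⊓ @Flat ⊓ @LocallyOfFinitePresentation)
    (pullback_map_diagonal_isPullback p p q).flip ⟨⟨?_, ?_⟩, ?_⟩ hm
  · exact MorphismProperty.pullbackMap (P := @Surjective) (i₁ := p) (i₂ := p) inferInstance inferInstance rfl rfl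
  · exact MorphismProperty.pullbackMap (P := @Flat) (i₁ := p) (i₂ := p) inferInstance inferInstance rfl rfl
  · exact MorphismProperty.pullbackMap (P := @LocallyOfFinitePresentation) (i₁ := p) (i₂ := p)
      inferInstance inferInstance rfl rfl

end Quot

section Cat

variable {C D : Type*} [Category* C] [Category* D] (F : C ⥤ D)

/-- A square is cartesian after applying `F` iff the comparison with a cartesian square is an isomorphism after
applying `F`. -/
theorem isPullback_map_iff {P R X Y : C} {a b : P ⟶ X} {p : X ⟶ Y} (hP : IsPullback a b p p) {s t : R ⟶ X}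
    (r : R ⟶ P) (h₁ : r ≫ a = s) (h₂ : r ≫ b = t) [PreservesLimit (cospan p p) F] :
    IsPullback (F.map s) (F.map t) (F.map p) (F.map p) ↔ IsIso (F.map r) := by
  subst h₁ h₂
  have h := hP.map F
  constructor
  · intro h'
    have e : F.map r = (h'.isoIsPullback _ _ h).hom := by
      apply h.hom_ext
      · rw [IsPullback.isoIsPullback_hom_fst, Functor.map_comp]
      · rw [IsPullback.isoIsPullback_hom_snd, Functor.map_comp]
    rw [e]
    infer_instance
  · intro _
    refine IsPullback.of_iso h (asIso (F.map r)).symm (Iso.refl _) (Iso.refl _) (Iso.refl _) ?_ ?_ (by simp) (by simp)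
    · simp
    · simp

end Cat

section Over

variable {S : Scheme.{u}}

/-- The fibre product over `X` with explicit underlying scheme. -/
noncomputable def fp {X Y : Over S} (p : X ⟶ Y) : Over S :=
  Over.mk (pullback.fst p.left p.left ≫ X.hom)

noncomputable def fpFst {X Y : Over S} (p : X ⟶ Y) : fp p ⟶ X := Over.homMk (pullback.fst p.left p.left) rfl

noncomputable def fpSnd {X Y : Over S} (p : X ⟶ Y) : fp p ⟶ X :=
  Over.homMk (pullback.snd p.left p.left) (by
    change pullback.snd p.left p.left ≫ X.hom = pullback.fst p.left p.left ≫ X.hom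
    rw [← Over.w p, pullback.condition_assoc])

theorem fp_isPullback {X Y : Over S} (p : X ⟶ Y) : IsPullback (fpFst p) (fpSnd p) p p :=
  IsPullback.of_map (Over.forget S) (by ext; exact pullback.condition) (.of_hasPullback p.left p.left)

/-- The quotient of `X` by the relation `s, t : R ⟶ X` is representable: there is a flat, surjective, locally
finitely presented `p : X ⟶ Y` with `R = X ×_Y X`. -/
def HasQuot {R X : Over S} (s t : R ⟶ X) : Prop :=
  ∃ (Y : Over S) (p : X ⟶ Y), Flat p.left ∧ Surjective p.left ∧ LocallyOfFinitePresentation p.left ∧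
    IsPullback s t p p

theorem HasQuot.of_iso {R X R' X' : Over S} {s t : R ⟶ X} {s' t' : R' ⟶ X'} (h : HasQuot s t) (e : R ≅ R')
    (e' : X ≅ X') (h₁ : s ≫ e'.hom = e.hom ≫ s') (h₂ : t ≫ e'.hom = e.hom ≫ t') : HasQuot s' t' := by
  obtain ⟨Y, p, h1, h2, h3, h4⟩ := h
  refine ⟨Y, e'.inv ≫ p, ?_, ?_, ?_, ?_⟩
  · rw [Over.comp_left]; infer_instance
  · rw [Over.comp_left]; infer_instance
  · rw [Over.comp_left]; infer_instance
  · refine IsPullback.of_iso h4 e e' e' (Iso.refl _) h₁ h₂ ?_ ?_ <;> simp

theorem HasQuot.map {S' : Scheme.{u}} (f : S' ⟶ S) {R X : Over S} {s t : R ⟶ X} (h : HasQuot s t) :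
    HasQuot ((Over.pullback f).map s) ((Over.pullback f).map t) := by
  obtain ⟨Y, p, h1, h2, h3, h4⟩ := h
  exact ⟨Red.bc f Y, (Over.pullback f).map p, MorphismProperty.of_isPullback (P := @Flat) (isPullback_map_left f p) h1,
    MorphismProperty.of_isPullback (P := @Surjective) (isPullback_map_left f p) h2,
    MorphismProperty.of_isPullback (P := @LocallyOfFinitePresentation) (isPullback_map_left f p) h3, h4.map _⟩

end Over

section Lim

variable {I : Type u} [SmallCategory I] [IsCofiltered I]
    {D : I ⥤ Scheme.{u}} {c : Cone D} (hc : IsLimit c)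
    [∀ (i i' : I) (f : i ⟶ i'), IsAffineHom (D.map f)]
    [∀ i, CompactSpace (D.obj i)] [∀ i, QuasiSeparatedSpace (D.obj i)]

include hc

/-- A cartesian square over the limit is cartesian at some stage. -/
theorem exists_isPullback {j : I} {R X Y : Over (D.obj j)}
    [LocallyOfFinitePresentation R.hom] [QuasiCompact R.hom] [QuasiSeparated R.hom]
    [LocallyOfFinitePresentation X.hom] [QuasiCompact X.hom] [QuasiSeparated X.hom]
    [LocallyOfFinitePresentation Y.hom] [QuasiCompact Y.hom] [QuasiSeparated Y.hom]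
    (s t : R ⟶ X) (q : X ⟶ Y)
    (h : IsPullback ((Over.pullback (c.π.app j)).map s) ((Over.pullback (c.π.app j)).map t)
      ((Over.pullback (c.π.app j)).map q) ((Over.pullback (c.π.app j)).map q)) :
    ∃ (i : I) (f : i ⟶ j), IsPullback ((Over.pullback (D.map f)).map s) ((Over.pullback (D.map f)).map t)
      ((Over.pullback (D.map f)).map q) ((Over.pullback (D.map f)).map q) := by
  have hw := h.w
  rw [← Functor.map_comp, ← Functor.map_comp] at hw
  obtain ⟨i, f, hf⟩ := exists_map_eq hc _ _ hw
  rw [Functor.map_comp, Functor.map_comp] at hf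
  let F := Over.pullback (D.map f)
  have hP := fp_isPullback (F.map q)
  let r : F.obj R ⟶ fp (F.map q) := hP.lift (F.map s) (F.map t) hf
  have hr1 : r ≫ fpFst (F.map q) = F.map s := hP.lift_fst _ _ _
  have hr2 : r ≫ fpSnd (F.map q) = F.map t := hP.lift_snd _ _ _
  have e1 : IsPullback ((Over.pullback (c.π.app i)).map (F.map s)) ((Over.pullback (c.π.app i)).map (F.map t))
      ((Over.pullback (c.π.app i)).map (F.map q)) ((Over.pullback (c.π.app i)).map (F.map q)) :=
    IsPullback.of_iso h (ActBC.bcCompIso _ _ R (c.w f)).symm (ActBC.bcCompIso _ _ X (c.w f)).symm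
      (ActBC.bcCompIso _ _ X (c.w f)).symm (ActBC.bcCompIso _ _ Y (c.w f)).symm
      (by rw [Iso.symm_hom, Iso.comp_inv_eq, Category.assoc, ActBC.bcCompIso_hom_naturality]; simp)
      (by rw [Iso.symm_hom, Iso.comp_inv_eq, Category.assoc, ActBC.bcCompIso_hom_naturality]; simp)
      (by rw [Iso.symm_hom, Iso.comp_inv_eq, Category.assoc, ActBC.bcCompIso_hom_naturality]; simp)
      (by rw [Iso.symm_hom, Iso.comp_inv_eq, Category.assoc, ActBC.bcCompIso_hom_naturality]; simp)
  rw [isPullback_map_iff _ hP r hr1 hr2] at e1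
  have a1 : LocallyOfFinitePresentation (F.map q).left := by
    have : LocallyOfFinitePresentation ((F.map q).left ≫ (F.obj Y).hom) := by
      rw [Over.w]; exact lfp_bc _ _
    have : LocallyOfFinitePresentation (F.obj Y).hom := lfp_bc _ _
    exact Groth.Agent.Ega43.FPOfComp.locallyOfFinitePresentation_of_comp _ (F.obj Y).hom
  have a2 : QuasiCompact (F.map q).left := by
    have : QuasiCompact ((F.map q).left ≫ (F.obj Y).hom) := by
      rw [Over.w]; exact qc_bc _ _
    have : QuasiSeparated (F.obj Y).hom := qs_bc _ _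
    exact QuasiCompact.of_comp _ (F.obj Y).hom
  have a3 : QuasiSeparated (F.map q).left := by
    have : QuasiSeparated ((F.map q).left ≫ (F.obj Y).hom) := by
      rw [Over.w]; exact qs_bc _ _
    exact QuasiSeparated.of_comp _ (F.obj Y).hom
  have b1 : LocallyOfFinitePresentation (fp (F.map q)).hom := by
    have : LocallyOfFinitePresentation (F.obj X).hom := lfp_bc _ _
    exact inferInstanceAs (LocallyOfFinitePresentation (pullback.fst (F.map q).left (F.map q).left ≫ (F.obj X).hom))
  have b2 : QuasiCompact (fp (F.map q)).hom := by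
    have : QuasiCompact (F.obj X).hom := qc_bc _ _
    exact inferInstanceAs (QuasiCompact (pullback.fst (F.map q).left (F.map q).left ≫ (F.obj X).hom))
  have b3 : QuasiSeparated (fp (F.map q)).hom := by
    have : QuasiSeparated (F.obj X).hom := qs_bc _ _
    exact inferInstanceAs (QuasiSeparated (pullback.fst (F.map q).left (F.map q).left ≫ (F.obj X).hom))
  have c1 : LocallyOfFinitePresentation (F.obj R).hom := lfp_bc _ _
  have c2 : QuasiCompact (F.obj R).hom := qc_bc _ _
  have c3 : QuasiSeparated (F.obj R).hom := qs_bc _ _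
  obtain ⟨i', g, hg⟩ := exists_prop_map hc (P := MorphismProperty.isomorphisms Scheme.{u})
    Groth.Agent.Ega43.LimitDescendIso.descendsLim_isomorphisms r
      (inferInstanceAs (IsIso ((Over.forget _).map ((Over.pullback (c.π.app i)).map r))))
  have hg' : IsIso ((Over.forget _).map ((Over.pullback (D.map g)).map r)) := hg
  have hg2 : IsIso ((Over.pullback (D.map g)).map r) := isIso_of_reflects_iso _ (Over.forget _)
  rw [← isPullback_map_iff _ hP r hr1 hr2] at hg2
  exact ⟨i', g ≫ f, IsPullback.of_iso hg2 (ActBC.bcCompIso _ _ R (D.map_comp g f).symm)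
    (ActBC.bcCompIso _ _ X (D.map_comp g f).symm)
      (ActBC.bcCompIso _ _ X (D.map_comp g f).symm) (ActBC.bcCompIso _ _ Y (D.map_comp g f).symm)
      (ActBC.bcCompIso_hom_naturality _ _ _ _) (ActBC.bcCompIso_hom_naturality _ _ _ _)
      (ActBC.bcCompIso_hom_naturality _ _ _ _) (ActBC.bcCompIso_hom_naturality _ _ _ _)⟩

omit [IsCofiltered I] [∀ (i i' : I) (f : i ⟶ i'), IsAffineHom (D.map f)] [∀ i, CompactSpace (D.obj i)]
  [∀ i, QuasiSeparatedSpace (D.obj i)] hc in
theorem isPullback_stage {i i' j : I} (g : i' ⟶ i) (f : i ⟶ j) {R X Y : Over (D.obj j)}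
    {s t : R ⟶ X} {q : X ⟶ Y}
    (h : IsPullback ((Over.pullback (D.map f)).map s) ((Over.pullback (D.map f)).map t)
      ((Over.pullback (D.map f)).map q) ((Over.pullback (D.map f)).map q)) :
    IsPullback ((Over.pullback (D.map (g ≫ f))).map s) ((Over.pullback (D.map (g ≫ f))).map t)
      ((Over.pullback (D.map (g ≫ f))).map q) ((Over.pullback (D.map (g ≫ f))).map q) :=
  IsPullback.of_iso (h.map (Over.pullback (D.map g))) (ActBC.bcCompIso _ _ R (D.map_comp g f).symm)
    (ActBC.bcCompIso _ _ X (D.map_comp g f).symm)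
      (ActBC.bcCompIso _ _ X (D.map_comp g f).symm) (ActBC.bcCompIso _ _ Y (D.map_comp g f).symm)
      (ActBC.bcCompIso_hom_naturality _ _ _ _) (ActBC.bcCompIso_hom_naturality _ _ _ _)
      (ActBC.bcCompIso_hom_naturality _ _ _ _) (ActBC.bcCompIso_hom_naturality _ _ _ _)

/-- If `q` is a quotient over the limit then it is one at some stage. -/
theorem exists_quot_map {j : I} {R X Y : Over (D.obj j)}
    [LocallyOfFinitePresentation R.hom] [QuasiCompact R.hom] [QuasiSeparated R.hom]
    [LocallyOfFinitePresentation X.hom] [QuasiCompact X.hom] [QuasiSeparated X.hom]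
    [LocallyOfFinitePresentation Y.hom] [QuasiCompact Y.hom] [QuasiSeparated Y.hom]
    (s t : R ⟶ X) (q : X ⟶ Y) (h₁ : Flat ((Over.pullback (c.π.app j)).map q).left)
    (h₂ : Surjective ((Over.pullback (c.π.app j)).map q).left)
    (h : IsPullback ((Over.pullback (c.π.app j)).map s) ((Over.pullback (c.π.app j)).map t)
      ((Over.pullback (c.π.app j)).map q) ((Over.pullback (c.π.app j)).map q)) :
    ∃ (i : I) (f : i ⟶ j), HasQuot ((Over.pullback (D.map f)).map s) ((Over.pullback (D.map f)).map t) := by
  obtain ⟨i, f, ⟨hf1, hf2⟩, hf3⟩ := stage_and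
    (Q₁ := fun i f => Flat ((Over.pullback (D.map f)).map q).left ∧ Surjective ((Over.pullback (D.map f)).map q).left)
    (Q₂ := fun i f => IsPullback ((Over.pullback (D.map f)).map s) ((Over.pullback (D.map f)).map t)
      ((Over.pullback (D.map f)).map q) ((Over.pullback (D.map f)).map q))
    (fun g f h => ⟨prop_map_comp (D.map g) (D.map f) (D.map_comp g f).symm (P := @Flat) q h.1,
      prop_map_comp (D.map g) (D.map f) (D.map_comp g f).symm (P := @Surjective) q h.2⟩)
    (fun g f h => isPullback_stage g f h)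
    (stage_and
      (Q₁ := fun i f => Flat ((Over.pullback (D.map f)).map q).left)
      (Q₂ := fun i f => Surjective ((Over.pullback (D.map f)).map q).left)
      (fun g f h => prop_map_comp (D.map g) (D.map f) (D.map_comp g f).symm (P := @Flat) q h)
      (fun g f h => prop_map_comp (D.map g) (D.map f) (D.map_comp g f).symm (P := @Surjective) q h)
      (exists_prop_map hc Groth.Agent.Sga3.H515.LimSmooth.descendsLim_flat q h₁)
      (exists_prop_map hc (Groth.Agent.Ega43.LimitDescendCompare.descendsLim_of_descends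
        Groth.Agent.Ega43.LimSurj.descends_surjective) q h₂))
    (exists_isPullback hc s t q h)
  refine ⟨i, f, Red.bc (D.map f) Y, (Over.pullback (D.map f)).map q, hf1, hf2, ?_, hf3⟩
  have : LocallyOfFinitePresentation (((Over.pullback (D.map f)).map q).left ≫ (Red.bc (D.map f) Y).hom) := by
    rw [Over.w]; exact lfp_bc _ _
  have : LocallyOfFinitePresentation (Red.bc (D.map f) Y).hom := lfp_bc _ _
  exact Groth.Agent.Ega43.FPOfComp.locallyOfFinitePresentation_of_comp _ (Red.bc (D.map f) Y).hom

/-- A quotient over the limit whose target has a model at the stage `j` comes from a quotient at some later stage. -/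
theorem exists_quot {j : I} {R X Y : Over (D.obj j)}
    [LocallyOfFinitePresentation R.hom] [QuasiCompact R.hom] [QuasiSeparated R.hom]
    [LocallyOfFinitePresentation X.hom] [QuasiCompact X.hom] [QuasiSeparated X.hom]
    [LocallyOfFinitePresentation Y.hom] [QuasiCompact Y.hom] [QuasiSeparated Y.hom]
    (s t : R ⟶ X) (p : Red.bc (c.π.app j) X ⟶ Red.bc (c.π.app j) Y) (h₁ : Flat p.left) (h₂ : Surjective p.left)
    (h : IsPullback ((Over.pullback (c.π.app j)).map s) ((Over.pullback (c.π.app j)).map t) p p) :
    ∃ (i : I) (f : i ⟶ j), HasQuot ((Over.pullback (D.map f)).map s) ((Over.pullback (D.map f)).map t) := by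
  obtain ⟨i, f, v, hv⟩ := exists_map_eq_of hc X Y p
  let F := Over.pullback (D.map f)
  have e (Z : Over (D.obj j)) := ActBC.bcCompIso (c.π.app i) (D.map f) Z (c.w f)
  have hv' : (Over.pullback (c.π.app i)).map v ≫ (ActBC.bcCompIso (c.π.app i) (D.map f) Y (c.w f)).hom =
      (ActBC.bcCompIso (c.π.app i) (D.map f) X (c.w f)).hom ≫ p := by
    rw [hv]; simp
  have g1 : Flat ((Over.pullback (c.π.app i)).map v).left :=
    (prop_iff_of_iso (P := @Flat) _ _ _ _ hv').mpr h₁
  have g2 : Surjective ((Over.pullback (c.π.app i)).map v).left :=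
    (prop_iff_of_iso (P := @Surjective) _ _ _ _ hv').mpr h₂
  have g3 : IsPullback ((Over.pullback (c.π.app i)).map (F.map s)) ((Over.pullback (c.π.app i)).map (F.map t))
      ((Over.pullback (c.π.app i)).map v) ((Over.pullback (c.π.app i)).map v) :=
    IsPullback.of_iso h (ActBC.bcCompIso _ _ R (c.w f)).symm (ActBC.bcCompIso _ _ X (c.w f)).symm
      (ActBC.bcCompIso _ _ X (c.w f)).symm (ActBC.bcCompIso _ _ Y (c.w f)).symm
      (by rw [Iso.symm_hom, Iso.comp_inv_eq, Category.assoc, ActBC.bcCompIso_hom_naturality]; simp)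
      (by rw [Iso.symm_hom, Iso.comp_inv_eq, Category.assoc, ActBC.bcCompIso_hom_naturality]; simp)
      (by rw [Iso.symm_hom, Iso.comp_inv_eq, Category.assoc, hv']; simp)
      (by rw [Iso.symm_hom, Iso.comp_inv_eq, Category.assoc, hv']; simp)
  obtain ⟨i', g, hg⟩ := exists_quot_map hc (F.map s) (F.map t) v g1 g2 g3
  exact ⟨i', g ≫ f, hg.of_iso (ActBC.bcCompIso _ _ R (D.map_comp g f).symm)
    (ActBC.bcCompIso _ _ X (D.map_comp g f).symm) (ActBC.bcCompIso_hom_naturality _ _ _ _)
    (ActBC.bcCompIso_hom_naturality _ _ _ _)⟩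

/-- The quotient is representable over the limit iff it is representable at some stage. -/
theorem hasQuot_limit_iff {j : I} {R X : Over (D.obj j)}
    [LocallyOfFinitePresentation R.hom] [QuasiCompact R.hom] [QuasiSeparated R.hom]
    [LocallyOfFinitePresentation X.hom] [QuasiCompact X.hom] [QuasiSeparated X.hom] (s t : R ⟶ X) :
    HasQuot ((Over.pullback (c.π.app j)).map s) ((Over.pullback (c.π.app j)).map t) ↔
    ∃ (i : I) (f : i ⟶ j), HasQuot ((Over.pullback (D.map f)).map s) ((Over.pullback (D.map f)).map t) := by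
  constructor
  · rintro ⟨Y, p, h1, h2, h3, h4⟩
    have hp := Over.w p
    have a1 : LocallyOfFinitePresentation (p.left ≫ Y.hom) := by
      rw [hp]; exact lfp_bc _ _
    have a2 : QuasiCompact (p.left ≫ Y.hom) := by
      rw [hp]; exact qc_bc _ _
    have a3 : QuasiSeparated (p.left ≫ Y.hom) := by
      rw [hp]; exact qs_bc _ _
    have a4 : QuasiCompact (((Over.pullback (c.π.app j)).map s).left ≫ p.left ≫ Y.hom) := by
      rw [hp, Over.w]; exact qc_bc _ _
    have b1 : LocallyOfFinitePresentation Y.hom := Groth.Agent.S0114.result p.left Y.hom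
    have b2 : QuasiCompact Y.hom := quasiCompact_of_quot p.left Y.hom
    have h5 : IsPullback ((Over.pullback (c.π.app j)).map s).left ((Over.pullback (c.π.app j)).map t).left
      p.left p.left := h4.map (Over.forget _)
    have b3 : QuasiSeparated Y.hom := quasiSeparated_of_quot p.left Y.hom _ _ h5
    obtain ⟨i₁, ⟨M⟩⟩ := Groth.Agent.CalgA.LimFP.Mdl.exists_model hc Y.hom
    obtain ⟨k, a, b, -⟩ := IsCofilteredOrEmpty.cone_objs j i₁
    let N := M.bc b
    have c1 : LocallyOfFinitePresentation (Over.mk N.f).hom := N.lfp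
    have c2 : QuasiCompact (Over.mk N.f).hom := N.qc
    have c3 : QuasiSeparated (Over.mk N.f).hom := N.qs
    let eY : Red.bc (c.π.app k) (Over.mk N.f) ≅ Y := Groth.Agent.Sga3.H515.GrpStage.mdlIso N
    let F := Over.pullback (D.map a)
    let p' : Red.bc (c.π.app k) (Red.bc (D.map a) X) ⟶ Red.bc (c.π.app k) (Over.mk N.f) :=
      (ActBC.bcCompIso (c.π.app k) (D.map a) X (c.w a)).hom ≫ p ≫ eY.inv
    have g1 : Flat p'.left := by
      dsimp only [p']
      rw [Over.comp_left, Over.comp_left]
      infer_instance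
    have g2 : Surjective p'.left := by
      dsimp only [p']
      rw [Over.comp_left, Over.comp_left]
      infer_instance
    have g3 : IsPullback ((Over.pullback (c.π.app k)).map (F.map s)) ((Over.pullback (c.π.app k)).map (F.map t))
        p' p' :=
      IsPullback.of_iso h4 (ActBC.bcCompIso _ _ R (c.w a)).symm (ActBC.bcCompIso _ _ X (c.w a)).symm
        (ActBC.bcCompIso _ _ X (c.w a)).symm eY.symm
        (by rw [Iso.symm_hom, Iso.comp_inv_eq, Category.assoc, ActBC.bcCompIso_hom_naturality]; simp)
        (by rw [Iso.symm_hom, Iso.comp_inv_eq, Category.assoc, ActBC.bcCompIso_hom_naturality]; simp)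
        (by simp [p']) (by simp [p'])
    obtain ⟨i, f, hf⟩ := exists_quot hc (F.map s) (F.map t) p' g1 g2 g3
    exact ⟨i, f ≫ a, hf.of_iso (ActBC.bcCompIso _ _ R (D.map_comp f a).symm)
      (ActBC.bcCompIso _ _ X (D.map_comp f a).symm) (ActBC.bcCompIso_hom_naturality _ _ _ _)
      (ActBC.bcCompIso_hom_naturality _ _ _ _)⟩
  · rintro ⟨i, f, hf⟩
    exact (hf.map (c.π.app i)).of_iso (ActBC.bcCompIso _ _ R (c.w f))
      (ActBC.bcCompIso _ _ X (c.w f)) (ActBC.bcCompIso_hom_naturality _ _ _ _)
      (ActBC.bcCompIso_hom_naturality _ _ _ _)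

end Lim

end K210.LimQuot
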