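import Groth.Agent.SGA3.K210.LimHom
import Groth.Agent.Sga3.H515.GrpModel

/-!
# Properties of morphisms and factorisations over a cofiltered limit of bases

* `exists_prop_map`: a property which descends along limits, for morphisms of `D.obj j`-schemes of finite
  presentation, in terms of `Over.pullback`.
* `exists_factor`: factorisations `w ≫ b = a` of base changes descend to a stage.
* `stage_and`: two properties of stages which are preserved by enlarging the stage.
* `isNormalHom_map_iff`, `central_map_iff`: normality and centrality of a base change in terms of the base change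
  of the universal conjugate and commutator.
-/

set_option autoImplicit false
set_option backward.isDefEq.respectTransparency false
set_option backward.defeqAttrib.useBackward true
universe u
open CategoryTheory CategoryTheory.Limits MonoidalCategory CartesianMonoidalCategory MonObj GrpObj AlgebraicGeometry

namespace K210.LimHom

open Groth.Agent.Ega43.LimitDescend Groth.Agent.Sga3.H515.GrpModel

section General

variable {S S₁ S₂ : Scheme.{u}} (g : S₂ ⟶ S₁) (f : S₁ ⟶ S) {d : S₂ ⟶ S} (h : g ≫ f = d) {X Y Z : Over S}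

theorem mv_map (a : X ⟶ Y) : mv g f h ((Over.pullback f).map a) = (Over.pullback d).map a := by
  rw [mv, ActBC.bcCompIso_hom_naturality, Iso.inv_hom_id_assoc]

theorem mv_comp (v : Red.bc f X ⟶ Red.bc f Y) (w : Red.bc f Y ⟶ Red.bc f Z) :
    mv g f h (v ≫ w) = mv g f h v ≫ mv g f h w := by
  simp [mv]

theorem mv_congr {v w : Red.bc f X ⟶ Red.bc f Y} (e : (Over.pullback g).map v = (Over.pullback g).map w) :
    mv g f h v = mv g f h w := by
  rw [mv, mv, e]

theorem map_eq_of_mv {v w : Red.bc f X ⟶ Red.bc f Y} (e : mv g f h v = mv g f h w) :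
    (Over.pullback g).map v = (Over.pullback g).map w := by
  rw [(map_eq_iff_mv g f h v _).mpr rfl, (map_eq_iff_mv g f h w _).mpr rfl, e]

include h in
/-- A property stable under base change passes from a base change to a further base change. -/
theorem prop_map_comp {P : MorphismProperty Scheme.{u}} [P.IsStableUnderBaseChange] (u : X ⟶ Y)
    (hu : P ((Over.pullback f).map u).left) : P ((Over.pullback d).map u).left := by
  have := MorphismProperty.IsStableUnderBaseChange.respectsIso (P := P)
  refine (prop_iff_of_iso (ActBC.bcCompIso g f X h) (ActBC.bcCompIso g f Y h) _ _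
    (ActBC.bcCompIso_hom_naturality g f h u)).mp ?_
  exact P.of_isPullback (isPullback_map_left g _) hu

end General

section Stage

variable {I : Type u} [SmallCategory I] [IsCofiltered I]

theorem stage_and {j : I} {Q₁ Q₂ : ∀ i : I, (i ⟶ j) → Prop}
    (h₁ : ∀ {i i' : I} (g : i' ⟶ i) (f : i ⟶ j), Q₁ i f → Q₁ i' (g ≫ f))
    (h₂ : ∀ {i i' : I} (g : i' ⟶ i) (f : i ⟶ j), Q₂ i f → Q₂ i' (g ≫ f))
    (e₁ : ∃ (i : I) (f : i ⟶ j), Q₁ i f) (e₂ : ∃ (i : I) (f : i ⟶ j), Q₂ i f) :
    ∃ (i : I) (f : i ⟶ j), Q₁ i f ∧ Q₂ i f := by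
  obtain ⟨i₁, f₁, hi₁⟩ := e₁
  obtain ⟨i₂, f₂, hi₂⟩ := e₂
  obtain ⟨k, a, b, hab⟩ := IsCofiltered.cospan f₁ f₂
  exact ⟨k, a ≫ f₁, h₁ a f₁ hi₁, hab ▸ h₂ b f₂ hi₂⟩

end Stage

section Lim

variable {I : Type u} [SmallCategory I] [IsCofiltered I]
    {D : I ⥤ Scheme.{u}} {c : Cone D} (hc : IsLimit c)
    [∀ (i i' : I) (f : i ⟶ i'), IsAffineHom (D.map f)]
    [∀ i, CompactSpace (D.obj i)] [∀ i, QuasiSeparatedSpace (D.obj i)]

include hc

/-- A property of morphisms which descends along limits, in terms of `Over.pullback`. -/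
theorem exists_prop_map {P : MorphismProperty Scheme.{u}} [P.RespectsIso] (hP : DescendsLim P) {j : I}
    {X Y : Over (D.obj j)} (w : X ⟶ Y)
    [LocallyOfFinitePresentation X.hom] [QuasiCompact X.hom] [QuasiSeparated X.hom]
    [LocallyOfFinitePresentation Y.hom] [QuasiCompact Y.hom] [QuasiSeparated Y.hom]
    (h : P ((Over.pullback (c.π.app j)).map w).left) :
    ∃ (i : I) (f : i ⟶ j), P ((Over.pullback (D.map f)).map w).left := by
  have c1 : LocallyOfFinitePresentation (w.left ≫ Y.hom) := by rwa [Over.w w]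
  have c2 : QuasiCompact (w.left ≫ Y.hom) := by rwa [Over.w w]
  have c3 : QuasiSeparated (w.left ≫ Y.hom) := by rwa [Over.w w]
  obtain ⟨i', φ, Xi, Yi, fi, gi, pY, pX, hpY, hpX, hfi⟩ := exists_descend_of_descendsLim' hP D c hc
    j w.left Y.hom ((Over.pullback (c.π.app j)).map w).left (pullback.snd Y.hom (c.π.app j))
    (pullback.fst Y.hom (c.π.app j)) (pullback.fst X.hom (c.π.app j))
    (IsPullback.of_hasPullback _ _) (isPullback_map_left (c.π.app j) w) h
  have h1 : IsPullback (pullback.fst Y.hom (D.map φ)) (pullback.snd Y.hom (D.map φ)) Y.hom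
    (D.map φ) := .of_hasPullback _ _
  exact ⟨i', φ, Groth.Agent.Ega43.LimitDescendIso.prop_of_isPullback_of_isPullback (P := P) hpX
    (isPullback_map_left (D.map φ) w)
    (hpY.isoIsPullback _ _ h1) (hpY.isoIsPullback_hom_fst _ _ h1) hfi⟩

/-- Factorisations descend to a stage. -/
theorem exists_factor {j : I} {X Y Z : Over (D.obj j)} [QuasiCompact X.hom] [QuasiSeparated X.hom]
    [LocallyOfFinitePresentation Y.hom] [LocallyOfFiniteType Z.hom] (a : X ⟶ Z) (b : Y ⟶ Z)
    (w : Red.bc (c.π.app j) X ⟶ Red.bc (c.π.app j) Y)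
    (h : w ≫ (Over.pullback (c.π.app j)).map b = (Over.pullback (c.π.app j)).map a) :
    ∃ (i : I) (f : i ⟶ j) (v : Red.bc (D.map f) X ⟶ Red.bc (D.map f) Y),
      mv (c.π.app i) (D.map f) (c.w f) v = w ∧
      v ≫ (Over.pullback (D.map f)).map b = (Over.pullback (D.map f)).map a := by
  obtain ⟨i, f, v, hv⟩ := exists_map_eq_of hc X Y w
  rw [map_eq_iff_mv] at hv
  have h1 : (Over.pullback (c.π.app i)).map (v ≫ (Over.pullback (D.map f)).map b) =
      (Over.pullback (c.π.app i)).map ((Over.pullback (D.map f)).map a) := by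
    apply map_eq_of_mv _ _ (c.w f)
    rw [mv_comp, mv_map, mv_map, hv, h]
  obtain ⟨i', g, hg⟩ := exists_map_eq hc _ _ h1
  refine ⟨i', g ≫ f, mv (D.map g) (D.map f) (D.map_comp g f).symm v, ?_, ?_⟩
  · rw [mv_mv _ _ _ (c.w g) _ (c.w f), hv]
  · rw [← mv_map (D.map g) (D.map f) (D.map_comp g f).symm b, ← mv_comp, mv_congr _ _ _ hg, mv_map]

end Lim

section Grp

variable {S S' : Scheme.{u}} (f : S' ⟶ S) {G H : Over S} [GrpObj G] [GrpObj H] (u : H ⟶ G)

/-- The universal conjugate of a point of `H` by a point of `G`. -/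
noncomputable def conj : G ⊗ H ⟶ G := fst G H * (snd G H ≫ u) * (fst G H)⁻¹

omit [GrpObj H] in
theorem comp_conj {T : Over S} (x : T ⟶ G) (y : T ⟶ H) : lift x y ≫ conj u = x * (y ≫ u) * x⁻¹ := by
  simp [conj, MonObj.comp_mul, GrpObj.comp_inv]

theorem isNormalHom_iff : AlgGrp.IsNormalHom u ↔ ∃ w : G ⊗ H ⟶ H, w ≫ u = conj u := by
  constructor
  · intro h
    obtain ⟨w, hw⟩ := h (G ⊗ H) (fst G H) (snd G H)
    exact ⟨w, hw.symm⟩
  · rintro ⟨w, hw⟩ T x y
    exact ⟨lift x y ≫ w, by rw [Category.assoc, hw, comp_conj]⟩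

set_option synthInstance.maxHeartbeats 200000 in
omit [GrpObj H] in
theorem map_conj : Functor.LaxMonoidal.μ (Over.pullback f) G H ≫ (Over.pullback f).map (conj u) =
    conj ((Over.pullback f).map u) := by
  have h1 : (Over.pullback f).map (conj u) = ((Over.pullback f).map (fst G H) *
      ((Over.pullback f).map (snd G H) ≫ (Over.pullback f).map u) * ((Over.pullback f).map (fst G H))⁻¹ :
      (Over.pullback f).obj (G ⊗ H) ⟶ Red.bc f G) := by
    rw [← Functor.map_comp, ← Functor.map_inv']
    rw [conj]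
    exact (Functor.map_mul _ _ _).trans (congrArg (· * _) (Functor.map_mul _ _ _))
  rw [h1, MonObj.comp_mul, MonObj.comp_mul, GrpObj.comp_inv, ← Category.assoc, Functor.Monoidal.μ_fst,
    Functor.Monoidal.μ_snd, conj]

/-- Normality of a base change in terms of the base change of the universal conjugate. -/
theorem isNormalHom_map_iff : AlgGrp.IsNormalHom ((Over.pullback f).map u) ↔
    ∃ w : Red.bc f (G ⊗ H) ⟶ Red.bc f H, w ≫ (Over.pullback f).map u = (Over.pullback f).map (conj u) := by
  rw [isNormalHom_iff]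
  constructor
  · rintro ⟨w, hw⟩
    refine ⟨inv (Functor.LaxMonoidal.μ (Over.pullback f) G H) ≫ w, ?_⟩
    rw [Category.assoc, hw, ← map_conj, IsIso.inv_hom_id_assoc]
  · rintro ⟨w, hw⟩
    exact ⟨Functor.LaxMonoidal.μ (Over.pullback f) G H ≫ w, by rw [Category.assoc, hw, map_conj]⟩

/-- `u` is central: every point of `H` commutes with every point of `G`. -/
def IsCentral : Prop := ∀ (T : Over S) (g : T ⟶ G) (n : T ⟶ H), g * (n ≫ u) = (n ≫ u) * g

omit [GrpObj H] in
theorem isCentral_iff : IsCentral u ↔ fst G H * (snd G H ≫ u) = (snd G H ≫ u) * fst G H := by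
  constructor
  · intro h
    exact h _ _ _
  · intro h T x y
    have := congr(lift x y ≫ $h)
    simpa [MonObj.comp_mul] using this

omit [GrpObj H] in
/-- Centrality of a base change in terms of the base change of the universal products. -/
theorem isCentral_map_iff : IsCentral ((Over.pullback f).map u) ↔
    (Over.pullback f).map (fst G H * (snd G H ≫ u)) = (Over.pullback f).map ((snd G H ≫ u) * fst G H) := by
  have h1 : (Over.pullback f).map (fst G H * (snd G H ≫ u)) = ((Over.pullback f).map (fst G H) *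
      ((Over.pullback f).map (snd G H) ≫ (Over.pullback f).map u) :
      (Over.pullback f).obj (G ⊗ H) ⟶ Red.bc f G) := by
    rw [← Functor.map_comp]
    exact Functor.map_mul _ _ _
  have h2 : (Over.pullback f).map ((snd G H ≫ u) * fst G H) =
      (((Over.pullback f).map (snd G H) ≫ (Over.pullback f).map u) * (Over.pullback f).map (fst G H) :
      (Over.pullback f).obj (G ⊗ H) ⟶ Red.bc f G) := by
    rw [← Functor.map_comp]
    exact Functor.map_mul _ _ _
  rw [isCentral_iff, ← cancel_epi (Functor.LaxMonoidal.μ (Over.pullback f) G H), h1, h2, MonObj.comp_mul,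
    MonObj.comp_mul, ← Category.assoc, Functor.Monoidal.μ_fst, Functor.Monoidal.μ_snd]

end Grp

section Stages

variable {S S₁ S₂ : Scheme.{u}} (g : S₂ ⟶ S₁) (f : S₁ ⟶ S) {d : S₂ ⟶ S} (h : g ≫ f = d) {G H : Over S}
  [GrpObj G] [GrpObj H] (u : H ⟶ G)

include h in
theorem isNormalHom_map_comp (hu : AlgGrp.IsNormalHom ((Over.pullback f).map u)) :
    AlgGrp.IsNormalHom ((Over.pullback d).map u) := by
  rw [isNormalHom_map_iff] at hu ⊢
  obtain ⟨w, hw⟩ := hu
  refine ⟨mv g f h w, ?_⟩
  rw [← mv_map g f h u, ← mv_comp, hw, mv_map]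

omit [GrpObj H] in
include h in
theorem isCentral_map_comp (hu : IsCentral ((Over.pullback f).map u)) :
    IsCentral ((Over.pullback d).map u) := by
  rw [isCentral_map_iff] at hu ⊢
  subst h
  exact map_comp_eq_map_comp _ _ _ _ hu

omit [GrpObj G] [GrpObj H] in
include h in
theorem mono_map_comp (hu : Mono ((Over.pullback f).map u)) : Mono ((Over.pullback d).map u) := by
  have h1 : Mono ((Over.pullback f).map u).left := inferInstanceAs (Mono ((Over.forget S₁).map ((Over.pullback f).map u)))
  have h2 : Mono ((Over.pullback d).map u).left :=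
    prop_map_comp g f h (P := MorphismProperty.monomorphisms Scheme.{u}) u h1
  exact (Over.forget _).mono_of_mono_map h2

end Stages

end K210.LimHom
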