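import Groth.Agent.S1317
import Groth.Agent.S0355
import Groth.Agent.S6084
import Groth.Agent.Sga3C.FlatHomog
import Groth.Agent.Sga3C.LocConn
import Groth.Agent.Sga3.H773.FlatLoc
import Groth.Agent.SGA3.K204.ArtThick

/-!
# Flatness of homomorphisms and reduced quotients

* `thick_section`: a rational point of a one point scheme locally of finite type over a field is a finite order
  thickening;
* `flat_of_maximal`: a morphism to a reduced scheme which maps every point to a maximal point is flat;
* `isPullback_fibre`: the fibre of `q : G ⟶ G'\G` over the unit is `G'`;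
* `flat_of_isFlatAt`: a homomorphism of groups over a field which is flat at a point is flat.
-/

set_option autoImplicit false
universe u
open CategoryTheory CategoryTheory.Limits MonoidalCategory CartesianMonoidalCategory MonObj GrpObj AlgebraicGeometry

namespace K210.NeutralFlat

open Groth.Agent.Sga3C.FlatPt

theorem thick_section (k : Type u) [Field k] (Y : Scheme.{u}) [Subsingleton Y]
    (f : Y ⟶ Spec (CommRingCat.of k)) [LocallyOfFiniteType f]
    (s : Spec (CommRingCat.of k) ⟶ Y) (hs : s ≫ f = 𝟙 _) : MoreMor.IsFiniteOrderThickening s := by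
  have hY : IsAffine Y := Groth.Agent.S6084.isAffine_of_subsingleton Y
  obtain ⟨φ, hφ⟩ := Spec.map_surjective (s ≫ Y.isoSpec.hom)
  obtain ⟨ψ, hψ⟩ := Spec.map_surjective (Y.isoSpec.inv ≫ f)
  have hφs : Function.Surjective φ.hom := by
    have h1 : Spec.map (ψ ≫ φ) = Spec.map (𝟙 _) := by
      rw [Spec.map_comp, hφ, hψ, Spec.map_id, Category.assoc, Iso.hom_inv_id_assoc, hs]
    have h2 : ψ ≫ φ = 𝟙 _ := Spec.map_injective h1
    intro x
    exact ⟨ψ.hom x, congr($(h2).hom x)⟩
  have hln : IsLocallyNoetherian Y := LocallyOfFiniteType.isLocallyNoetherian f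
  have hnoeth : IsNoetherianRing Γ(Y, ⊤) := IsLocallyNoetherian.component_noetherian ⟨⊤, isAffineOpen_top Y⟩
  have hsub : Subsingleton (PrimeSpectrum Γ(Y, ⊤)) :=
    Y.isoSpec.inv.isOpenEmbedding.injective.subsingleton
  have hnil : IsNilpotent (RingHom.ker φ.hom) := by
    rw [Ideal.FG.isNilpotent_iff_le_nilradical (IsNoetherian.noetherian _), nilradical_eq_sInf]
    refine le_sInf fun p hp => ?_
    have hprime : (RingHom.ker φ.hom).IsPrime := RingHom.ker_isPrime φ.hom
    have h3 := Subsingleton.elim (α := PrimeSpectrum Γ(Y, ⊤)) ⟨_, hprime⟩ ⟨p, hp⟩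
    exact congrArg PrimeSpectrum.asIdeal h3 |>.le
  have hth := K204.ArtThick.isFiniteOrderThickening_spec φ.hom hφs hnil
  have hpb : IsPullback s (𝟙 _) Y.isoSpec.hom (Spec.map φ) :=
    IsPullback.of_vert_isIso ⟨by rw [hφ, Category.id_comp]⟩
  exact K204.ArtThick.isFiniteOrderThickening_of_isPullback hpb hth

theorem flat_of_maximal {X Y : Scheme.{u}} [IsReduced Y] (f : X ⟶ Y)
    (h : ∀ (x : X) (z : Y), z ⤳ f x → z = f x) : Flat f := by
  rw [Flat.iff_flat_stalkMap]
  intro x
  have hf : IsField (Y.presheaf.stalk (f x)) := by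
    refine isField_stalk_of_closure_mem_irreducibleComponents Y (f x) ?_
    refine ⟨isIrreducible_singleton.closure, fun Z hZ hle => ?_⟩
    obtain ⟨z, hz⟩ := QuasiSober.sober hZ.closure isClosed_closure
    have h1 : z ⤳ f x := hz.specializes (subset_closure (hle (subset_closure rfl)))
    have h2 : closure Z = closure {f x} := by rw [← hz.def, h x z h1]
    exact subset_closure.trans h2.le
  let _ := hf.toField
  algebraize [(f.stalkMap x).hom]
  exact (inferInstance : Module.Flat (Y.presheaf.stalk (f x)) (X.presheaf.stalk x))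

section

variable {C : Type*} [Category C] [CartesianMonoidalCategory C]

theorem isPullback_unit (G' G : C) [GrpObj G] : IsPullback
    (CartesianMonoidalCategory.lift (𝟙 G') (toUnit G' ≫ η[G])) (toUnit G') (snd G' G) η[G] := by
  have w : CartesianMonoidalCategory.lift (𝟙 G') (toUnit G' ≫ η[G]) ≫ snd G' G = toUnit G' ≫ η[G] :=
    CartesianMonoidalCategory.lift_snd _ _
  refine IsPullback.of_isLimit (PullbackCone.IsLimit.mk w (fun s => s.fst ≫ fst G' G) ?_ ?_ ?_)
  · intro s
    apply CartesianMonoidalCategory.hom_ext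
    · rw [Category.assoc, CartesianMonoidalCategory.lift_fst, Category.comp_id]
    · have := s.condition
      rw [Category.assoc, w, this, ← Category.assoc]
      congr 1
      exact toUnit_unique _ _
  · intro s; exact toUnit_unique _ _
  · intro s m h _
    rw [← h, Category.assoc, CartesianMonoidalCategory.lift_fst, Category.comp_id]

theorem isPullback_fibre {G' G Y : C} [GrpObj G] (b : G' ⟶ G) (q : G ⟶ Y)
    (hq : IsPullback ((b ▷ G) ≫ μ[G]) (snd G' G) q q) : IsPullback b (toUnit G') q (η[G] ≫ q) := by
  have h2 := (isPullback_unit G' G).paste_horiz hq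
  have h3 : CartesianMonoidalCategory.lift (𝟙 G') (toUnit G' ≫ η[G]) ≫ (b ▷ G) ≫ μ[G] = b := by
    rw [CartesianMonoidalCategory.lift_whiskerRight_assoc, Category.id_comp, MonObj.lift_comp_one_right]
  rwa [h3] at h2

end

/-- A homomorphism of group schemes over a field which is flat at a point is flat. -/
theorem flat_of_isFlatAt {k : Type u} [Field k] {F G : Over (Spec (CommRingCat.of k))} [GrpObj F] [GrpObj G]
    (u : F ⟶ G) [IsMonHom u] (y : F.left) (hy : IsFlatAt u.left y) : Flat u.left := by
  have : Flat F.hom := inferInstance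
  refine flat_of_forall_isFlatAt _ fun x => ?_
  exact Groth.Agent.Sga3C.FlatHomog.isFlatAt_of_isFlatAt u (Groth.Agent.Sga3C.GrpBasic.mulLeftShear u)
    (Groth.Agent.Sga3.H773.FlatLoc.shear_comm u) x y (Subsingleton.elim (α := PrimeSpectrum k) _ _) hy

end K210.NeutralFlat
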