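import Groth.Agent.SGA3.K210.DerFam
import Groth.Agent.S6079

/-!
# The derived series of a group scheme with smooth fibres over a dense open of the base
-/

set_option autoImplicit false
set_option backward.isDefEq.respectTransparency false
set_option backward.defeqAttrib.useBackward true
universe u
open CategoryTheory CategoryTheory.Limits MonoidalCategory CartesianMonoidalCategory MonObj GrpObj AlgebraicGeometry

namespace K210.DerMain

open Groth.Agent.Sga3B Groth.Agent.Sga3B.RedIso K210.DerChain K210.DerFam K210.LimHom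

theorem step {W : Scheme.{u}} [IsIntegral W] {n : ℕ} {G D : Over W} [GrpObj G] [GrpObj D]
    [LocallyOfFinitePresentation G.hom] [QuasiCompact G.hom] [QuasiSeparated G.hom] {d : D ⟶ G}
    (h : IsDer n d) : ∃ U : W.Opens, (U : Set W).Nonempty ∧
      ∃ (D' : Over (U : Scheme.{u})) (_ : GrpObj D') (d' : D' ⟶ Red.bc U.ι G), IsDer (n + 1) d' := by
  have h1 := h.mon
  have h2 := h.cl
  have h4 := h.lfp
  have h5 := h.qc
  have h6 := h.qs
  obtain ⟨U, hU, D', _, d', a1, a2, a3, a4, a5, a6, -, a8, a9⟩ := Groth.Agent.S6079.result W G D D d d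
    (h.sm _) (h.sm _) (Or.inr ⟨h.nor, h.nor⟩)
  refine ⟨U, hU, D', inferInstance, d', a1, a2, a8 ⟨h.nor, h.nor⟩, a3, a4, a5, a6, fun s => ?_⟩
  refine ⟨inferInstance, isClosedImmersion_map _ d' a2, Red.bc ((U : Scheme.{u}).fromSpecResidueField s) (Red.bc U.ι D),
    inferInstance, _, (h.bc U.ι).ch s, ?_, ?_⟩
  · exact (a9 s).1
  · exact (a9 s).2

theorem base {S : Scheme.{u}} {G : Over S} [GrpObj G]
    [LocallyOfFinitePresentation G.hom] [QuasiCompact G.hom] [QuasiSeparated G.hom]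
    (hsm : ∀ s : S, Smooth (G.hom.fiberToSpecResidueField s)) : IsDer 0 (𝟙 G) := by
  refine ⟨inferInstance, ?_, ?_, inferInstance, inferInstance, inferInstance, hsm, fun s => ?_⟩
  · rw [Over.id_left]; infer_instance
  · intro T x y
    exact ⟨x * y * x⁻¹, by simp⟩
  · refine ⟨inferInstance, ?_, inferInstance⟩
    rw [CategoryTheory.Functor.map_id, Over.id_left]; infer_instance

theorem main {S : Scheme.{u}} [IsIntegral S] {G : Over S} [GrpObj G]
    [LocallyOfFinitePresentation G.hom] [QuasiCompact G.hom] [QuasiSeparated G.hom]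
    (hsm : ∀ s : S, Smooth (G.hom.fiberToSpecResidueField s)) (n : ℕ) : ∃ U : S.Opens, (U : Set S).Nonempty ∧
      ∃ (D : Over (U : Scheme.{u})) (_ : GrpObj D) (d : D ⟶ Red.bc U.ι G), IsDer n d := by
  induction n with
  | zero => exact ⟨⊤, Set.univ_nonempty, _, inferInstance, _, (base hsm).bc (⊤ : S.Opens).ι⟩
  | succ n ih =>
    obtain ⟨U, hU, D, _, d, hd⟩ := ih
    have : Nonempty (U : Scheme.{u}) := hU.to_subtype
    obtain ⟨U', hU', D', _, d', hd'⟩ := step hd
    let V : S.Opens := U.ι ''ᵁ U'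
    let ψ : (V : Scheme.{u}) ⟶ (U' : Scheme.{u}) := (U.ι.isoImage U').inv
    have hψ : ψ ≫ U'.ι ≫ U.ι = V.ι := Scheme.Hom.isoImage_inv_ι _ _
    have hθ := hd'.bc ψ
    let e : Red.bc ψ (Red.bc U'.ι (Red.bc U.ι G)) ≅ Red.bc V.ι G :=
      (Over.pullback ψ).mapIso (ActBC.bcCompIso U'.ι U.ι G rfl) ≪≫ ActBC.bcCompIso ψ (U'.ι ≫ U.ι) G hψ
    have : IsMonHom e.hom := by
      change IsMonHom ((Over.pullback ψ).map (ActBC.bcCompIso U'.ι U.ι G rfl).hom ≫
        (ActBC.bcCompIso ψ (U'.ι ≫ U.ι) G hψ).hom)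
      infer_instance
    exact ⟨V, hU'.image _, _, inferInstance, _, hθ.comp_iso e⟩

end K210.DerMain
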