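import Groth.Prelude.Def_ComodSub
import Mathlib.LinearAlgebra.TensorProduct.RightExactness
import Mathlib.RingTheory.Flat.Basic

/-!
# Cofree comodules and pull backs

* `cofree`: the comodule `L ⊗ C`.
* `isSubcomod_comap`: preimages of subcomodules (flat coalgebra).
* `pb`: the pull back of the coaction `F ⟶ F ⊗ C` along `L ⊗ C ⟶ F ⊗ C`, a subcomodule of `L ⊗ C`; it maps onto `F`
  by a comodule map `pbMap`.
-/

set_option autoImplicit false
universe u v w w'
open TensorProduct

namespace K210.ComodPb

open HopfRep

section Cofree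

variable {R : Type u} [CommRing R] {C : Type v} [AddCommGroup C] [Module R C] [Coalgebra R C]
  (L : Type w) [AddCommGroup L] [Module R L]

/-- The coaction of the cofree comodule `L ⊗ C`. -/
noncomputable def cofreeCoact : L ⊗[R] C →ₗ[R] (L ⊗[R] C) ⊗[R] C :=
  (TensorProduct.assoc R L C C).symm.toLinearMap ∘ₗ (CoalgebraStruct.comul (R := R) (A := C)).lTensor L

theorem cofreeCoact_tmul (x : L) (a : C) :
    cofreeCoact L (x ⊗ₜ[R] a) = (TensorProduct.assoc R L C C).symm (x ⊗ₜ[R] CoalgebraStruct.comul (R := R) a) := rfl

/-- The cofree comodule `L ⊗ C`. -/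
@[reducible] noncomputable def cofree : Comod R C (L ⊗[R] C) where
  coact := cofreeCoact L
  coassoc := by
    refine TensorProduct.ext' fun x a => ?_
    simp only [LinearMap.coe_comp, Function.comp_apply, LinearEquiv.coe_coe]
    rw [cofreeCoact_tmul]
    have h1 := LinearMap.congr_fun (Coalgebra.coassoc (R := R) (A := C)) a
    simp only [LinearMap.coe_comp, Function.comp_apply, LinearEquiv.coe_coe] at h1
    have e1 : ∀ y : C ⊗[R] C, TensorProduct.assoc R (L ⊗[R] C) C C ((cofreeCoact L).rTensor C
        ((TensorProduct.assoc R L C C).symm (x ⊗ₜ[R] y))) =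
        (TensorProduct.assoc R L C (C ⊗[R] C)).symm (x ⊗ₜ[R] (TensorProduct.assoc R C C C
          ((CoalgebraStruct.comul (R := R) (A := C)).rTensor C y))) := by
      intro y
      induction y using TensorProduct.induction_on with
      | zero => simp
      | add y z hy hz => simp only [TensorProduct.tmul_add, map_add, hy, hz]
      | tmul b c =>
        rw [TensorProduct.assoc_symm_tmul, LinearMap.rTensor_tmul, LinearMap.rTensor_tmul, cofreeCoact_tmul]
        generalize CoalgebraStruct.comul (R := R) b = w
        induction w using TensorProduct.induction_on with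
        | zero => simp
        | add y z hy hz => simp only [TensorProduct.tmul_add, TensorProduct.add_tmul, map_add, hy, hz]
        | tmul p q => rfl
    have e2 : ∀ y : C ⊗[R] C, (CoalgebraStruct.comul (R := R) (A := C)).lTensor (L ⊗[R] C)
        ((TensorProduct.assoc R L C C).symm (x ⊗ₜ[R] y)) =
        (TensorProduct.assoc R L C (C ⊗[R] C)).symm (x ⊗ₜ[R]
          ((CoalgebraStruct.comul (R := R) (A := C)).lTensor C y)) := by
      intro y
      induction y using TensorProduct.induction_on with
      | zero => simp
      | add y z hy hz => simp only [TensorProduct.tmul_add, map_add, hy, hz]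
      | tmul b c => rfl
    rw [e1, e2, h1]
  counit_comp := by
    refine TensorProduct.ext' fun x a => ?_
    simp only [LinearMap.coe_comp, Function.comp_apply, LinearMap.flip_apply, TensorProduct.mk_apply]
    rw [cofreeCoact_tmul]
    have e1 : ∀ y : C ⊗[R] C, (CoalgebraStruct.counit (R := R) (A := C)).lTensor (L ⊗[R] C)
        ((TensorProduct.assoc R L C C).symm (x ⊗ₜ[R] y)) =
        (TensorProduct.assoc R L C R).symm (x ⊗ₜ[R]
          ((CoalgebraStruct.counit (R := R) (A := C)).lTensor C y)) := by
      intro y
      induction y using TensorProduct.induction_on with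
      | zero => simp
      | add y z hy hz => simp only [TensorProduct.tmul_add, map_add, hy, hz]
      | tmul b c => rfl
    rw [e1, Coalgebra.lTensor_counit_comul]
    rfl

variable {L} {F : Type w'} [AddCommGroup F] [Module R F]

/-- `p ⊗ id` is a comodule map between cofree comodules. -/
theorem rTensor_hom (p : L →ₗ[R] F) :
    (cofree (R := R) (C := C) F).coact ∘ₗ p.rTensor C = (p.rTensor C).rTensor C ∘ₗ (cofree (R := R) (C := C) L).coact := by
  refine TensorProduct.ext' fun x a => ?_
  simp only [LinearMap.coe_comp, Function.comp_apply]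
  change cofreeCoact F (p.rTensor C (x ⊗ₜ[R] a)) = (p.rTensor C).rTensor C (cofreeCoact L (x ⊗ₜ[R] a))
  rw [LinearMap.rTensor_tmul, cofreeCoact_tmul, cofreeCoact_tmul]
  generalize CoalgebraStruct.comul (R := R) a = y
  induction y using TensorProduct.induction_on with
  | zero => simp
  | add y z hy hz => simp only [TensorProduct.tmul_add, map_add, hy, hz]
  | tmul b c => rfl

/-- The coaction is a comodule map to the cofree comodule. -/
theorem coact_hom (c : Comod R C F) :
    (cofree (R := R) (C := C) F).coact ∘ₗ c.coact = c.coact.rTensor C ∘ₗ c.coact := by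
  refine LinearMap.ext fun x => ?_
  have h := LinearMap.congr_fun c.coassoc x
  simp only [LinearMap.coe_comp, Function.comp_apply, LinearEquiv.coe_coe] at h ⊢
  change (TensorProduct.assoc R F C C).symm ((CoalgebraStruct.comul (R := R) (A := C)).lTensor F (c.coact x)) = _
  rw [← h, LinearEquiv.symm_apply_apply]

end Cofree

section Comap

variable {R : Type u} [CommRing R] {C : Type v} [AddCommGroup C] [Module R C] [Coalgebra R C]
  {V : Type w} [AddCommGroup V] [Module R V] {V' : Type w'} [AddCommGroup V'] [Module R V']

omit [Coalgebra R C] in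
theorem mem_range_iff (W : Submodule R V) (x : V ⊗[R] C) :
    x ∈ LinearMap.range (W.subtype.rTensor C) ↔ W.mkQ.rTensor C x = 0 := by
  have hex : Function.Exact (W.subtype.rTensor C) (W.mkQ.rTensor C) :=
    rTensor_exact C (LinearMap.exact_subtype_mkQ W) (Submodule.mkQ_surjective W)
  exact (hex x).symm

/-- Preimages of subcomodules under comodule maps are subcomodules (flat coalgebra). -/
theorem isSubcomod_comap [Module.Flat R C] (c : Comod R C V) (c' : Comod R C V') (g : V →ₗ[R] V')
    (hg : c'.coact ∘ₗ g = g.rTensor C ∘ₗ c.coact) (W : Submodule R V')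
    (hW : @IsSubcomod R C _ _ _ _ V' _ _ c' W) : @IsSubcomod R C _ _ _ _ V _ _ c (W.comap g) := by
  intro v hv
  rw [mem_range_iff]
  have hinj : Function.Injective (((W.comap g).mapQ W g le_rfl).rTensor C) := by
    apply Module.Flat.rTensor_preserves_injective_linearMap
    rw [← LinearMap.ker_eq_bot, Submodule.ker_mapQ]
    simp
  apply hinj
  rw [map_zero, ← LinearMap.comp_apply, ← LinearMap.rTensor_comp, Submodule.mapQ_mkQ, LinearMap.rTensor_comp,
    LinearMap.comp_apply]
  have h1 : g.rTensor C (c.coact v) = c'.coact (g v) := (LinearMap.congr_fun hg v).symm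
  change W.mkQ.rTensor C (g.rTensor C (c.coact v)) = 0
  rw [h1]
  exact (mem_range_iff W _).mp (hW (g v) hv)

/-- The range of a comodule map is a subcomodule. -/
theorem isSubcomod_range (c : Comod R C V) (c' : Comod R C V') (g : V →ₗ[R] V')
    (hg : c'.coact ∘ₗ g = g.rTensor C ∘ₗ c.coact) :
    @IsSubcomod R C _ _ _ _ V' _ _ c' (LinearMap.range g) := by
  rintro _ ⟨v, rfl⟩
  have h1 : c'.coact (g v) = g.rTensor C (c.coact v) := LinearMap.congr_fun hg v
  change c'.coact (g v) ∈ _
  rw [h1]
  refine ⟨g.rangeRestrict.rTensor C (c.coact v), ?_⟩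
  rw [← LinearMap.comp_apply, ← LinearMap.rTensor_comp]
  rfl

end Comap

section Pb

variable {R : Type u} [CommRing R] {C : Type v} [AddCommGroup C] [Module R C] [Coalgebra R C] [Module.Flat R C]
  {L : Type w} [AddCommGroup L] [Module R L] {F : Type w'} [AddCommGroup F] [Module R F] (c : Comod R C F)
  (p : L →ₗ[R] F)

/-- The pull back of the coaction along `p ⊗ id`. -/
noncomputable def pb : Submodule R (L ⊗[R] C) := (LinearMap.range c.coact).comap (p.rTensor C)

theorem isSubcomod_pb : @IsSubcomod R C _ _ _ _ _ _ _ (cofree (R := R) (C := C) L) (pb c p) :=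
  isSubcomod_comap _ (cofree F) _ (rTensor_hom p) _ (isSubcomod_range c _ _ (coact_hom c))

/-- The map `L ⊗ C ⟶ F` given by `p` and the counit. -/
noncomputable def pbMap : L ⊗[R] C →ₗ[R] F :=
  (TensorProduct.rid R F).toLinearMap ∘ₗ (CoalgebraStruct.counit (R := R) (A := C)).lTensor F ∘ₗ p.rTensor C

omit [Module.Flat R C] in
theorem counit_coact (y : F) :
    TensorProduct.rid R F ((CoalgebraStruct.counit (R := R) (A := C)).lTensor F (c.coact y)) = y := by
  have h := LinearMap.congr_fun c.counit_comp y
  simp only [LinearMap.coe_comp, Function.comp_apply, LinearMap.flip_apply, TensorProduct.mk_apply] at h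
  rw [h, TensorProduct.rid_tmul, one_smul]

omit [Module.Flat R C] in
theorem coact_pbMap {x : L ⊗[R] C} (hx : x ∈ pb c p) : c.coact (pbMap p x) = p.rTensor C x := by
  obtain ⟨y, hy⟩ := hx
  have h1 : pbMap p x = y := by
    change TensorProduct.rid R F ((CoalgebraStruct.counit (R := R) (A := C)).lTensor F (p.rTensor C x)) = y
    rw [← hy, counit_coact]
  rw [h1, hy]

omit [Module.Flat R C] in
/-- `pbMap` maps the pull back onto `F`. -/
theorem exists_pbMap_eq (hp : Function.Surjective p) (y : F) : ∃ x ∈ pb c p, pbMap p x = y := by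
  obtain ⟨x, hx⟩ := LinearMap.rTensor_surjective C hp (c.coact y)
  refine ⟨x, ⟨y, hx.symm⟩, ?_⟩
  change TensorProduct.rid R F ((CoalgebraStruct.counit (R := R) (A := C)).lTensor F (p.rTensor C x)) = y
  rw [hx, counit_coact]

/-- `pbMap` is a comodule map on the pull back. -/
theorem pbMap_hom : c.coact ∘ₗ (pbMap p ∘ₗ (pb c p).subtype) =
    (pbMap p ∘ₗ (pb c p).subtype).rTensor C ∘ₗ
      (ComodSub.Comod.restr (cofree (R := R) (C := C) L) (pb c p) (isSubcomod_pb c p)).coact := by
  refine LinearMap.ext fun x => ?_
  have h1 := ComodSub.restr_coact_coe (cofree (R := R) (C := C) L) (pb c p) (isSubcomod_pb c p) x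
  rw [LinearMap.rTensor_comp]
  simp only [LinearMap.coe_comp, Function.comp_apply]
  rw [h1]
  change c.coact (pbMap p (x : L ⊗[R] C)) = _
  rw [coact_pbMap c p x.2]
  generalize (x : L ⊗[R] C) = y
  change p.rTensor C y = (pbMap p).rTensor C (cofreeCoact L y)
  induction y using TensorProduct.induction_on with
  | zero => simp
  | add y z hy hz => simp only [map_add, hy, hz]
  | tmul m a =>
    rw [cofreeCoact_tmul]
    have e1 : ∀ y : C ⊗[R] C, (pbMap p).rTensor C ((TensorProduct.assoc R L C C).symm (m ⊗ₜ[R] y)) =
        p m ⊗ₜ[R] TensorProduct.lid R C ((CoalgebraStruct.counit (R := R) (A := C)).rTensor C y) := by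
      intro y
      induction y using TensorProduct.induction_on with
      | zero => simp
      | add y z hy hz => simp only [TensorProduct.tmul_add, map_add, hy, hz]
      | tmul b d =>
        rw [TensorProduct.assoc_symm_tmul, LinearMap.rTensor_tmul, LinearMap.rTensor_tmul,
          TensorProduct.lid_tmul, TensorProduct.tmul_smul, TensorProduct.smul_tmul']
        simp [pbMap]
    rw [e1, Coalgebra.rTensor_counit_comul, TensorProduct.lid_tmul, one_smul, LinearMap.rTensor_tmul]

end Pb

end K210.ComodPb
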