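import Groth.Agent.SGA3.K210.LimHom2
import Groth.Agent.Sga3B.BcNat

/-!
# Smallest closed subgroups through commutators, and derived series

* `cm a b : A ⊗ B ⟶ H`: the commutator `(x, y) ↦ a(x) b(y) a(x)⁻¹ b(y)⁻¹`;
* `IsCm a b e`: `e : K ⟶ H` is the smallest closed subgroup scheme of `H` through which `cm a b` factors;
* `Chain H n D d`: `d : D ⟶ H` is the `n`-th derived subgroup scheme of `H`.

They are transported along isomorphisms of groups and of bases.
-/

set_option autoImplicit false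
set_option backward.isDefEq.respectTransparency false
set_option backward.defeqAttrib.useBackward true
universe u
open CategoryTheory CategoryTheory.Limits MonoidalCategory CartesianMonoidalCategory MonObj GrpObj AlgebraicGeometry

namespace K210.DerChain

open Groth.Agent.Sga3B Groth.Agent.Sga3B.RedIso

section Basic

variable {T : Scheme.{u}} {H H' A B K : Over T} [GrpObj H] [GrpObj H']

/-- The universal commutator. -/
noncomputable def cm (a : A ⟶ H) (b : B ⟶ H) : A ⊗ B ⟶ H :=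
  ((fst A B ≫ a) * (snd A B ≫ b) * (fst A B ≫ a)⁻¹ * (snd A B ≫ b)⁻¹)

/-- `e : K ⟶ H` is the smallest closed subgroup scheme through which the commutator of `a` and `b` factors. -/
structure IsCm (a : A ⟶ H) (b : B ⟶ H) (e : K ⟶ H) : Prop where
  fac : ∃ c : A ⊗ B ⟶ K, c ≫ e = cm a b
  min : ∀ (Γ' : Over T) (_ : GrpObj Γ') (i' : Γ' ⟶ H), IsMonHom i' → IsClosedImmersion i'.left →
    (∃ c' : A ⊗ B ⟶ Γ', c' ≫ i' = cm a b) → ∃ j : K ⟶ Γ', j ≫ i' = e

theorem cm_comp (a : A ⟶ H) (b : B ⟶ H) (θ : H ⟶ H') [IsMonHom θ] : cm (a ≫ θ) (b ≫ θ) = cm a b ≫ θ := by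
  simp [cm, MonObj.mul_comp, GrpObj.inv_comp]

theorem IsCm.comp_iso {a : A ⟶ H} {b : B ⟶ H} {e : K ⟶ H} (h : IsCm a b e) (θ : H ≅ H') [IsMonHom θ.hom] :
    IsCm (a ≫ θ.hom) (b ≫ θ.hom) (e ≫ θ.hom) := by
  refine ⟨?_, fun Γ' _ i' h1 h2 => ?_⟩
  · obtain ⟨c, hc⟩ := h.fac
    exact ⟨c, by rw [cm_comp, ← hc, Category.assoc]⟩
  · rintro ⟨c', hc'⟩
    have h3 : IsClosedImmersion (i' ≫ θ.inv).left := by
      rw [Over.comp_left]; infer_instance
    obtain ⟨j, hj⟩ := h.min Γ' _ (i' ≫ θ.inv) inferInstance h3 ⟨c', by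
      rw [← Category.assoc, hc', cm_comp, Category.assoc, Iso.hom_inv_id, Category.comp_id]⟩
    exact ⟨j, by rw [← hj, Category.assoc, Category.assoc, Iso.inv_hom_id, Category.comp_id]⟩

theorem IsCm.iso_comp {a : A ⟶ H} {b : B ⟶ H} {e : K ⟶ H} (h : IsCm a b e) {K' : Over T} (θ : K' ≅ K) :
    IsCm a b (θ.hom ≫ e) := by
  refine ⟨?_, fun Γ' _ i' h1 h2 h3 => ?_⟩
  · obtain ⟨c, hc⟩ := h.fac
    exact ⟨c ≫ θ.inv, by rw [← hc, Category.assoc, Iso.inv_hom_id_assoc]⟩
  · obtain ⟨j, hj⟩ := h.min Γ' _ i' h1 h2 h3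
    exact ⟨θ.hom ≫ j, by rw [Category.assoc, hj]⟩

theorem cm_iso_comp {A' B' : Over T} (a : A ⟶ H) (b : B ⟶ H) (α : A' ⟶ A) (β : B' ⟶ B) :
    cm (α ≫ a) (β ≫ b) = (α ⊗ₘ β) ≫ cm a b := by
  simp [cm, MonObj.comp_mul, GrpObj.comp_inv]

theorem IsCm.src_iso {a : A ⟶ H} {b : B ⟶ H} {e : K ⟶ H} (h : IsCm a b e) {A' B' : Over T} (α : A' ≅ A)
    (β : B' ≅ B) : IsCm (α.hom ≫ a) (β.hom ≫ b) e := by
  refine ⟨?_, fun Γ' _ i' h1 h2 => ?_⟩
  · obtain ⟨c, hc⟩ := h.fac
    exact ⟨(α.hom ⊗ₘ β.hom) ≫ c, by rw [cm_iso_comp, ← hc, Category.assoc]⟩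
  · rintro ⟨c', hc'⟩
    refine h.min Γ' _ i' h1 h2 ⟨(α.inv ⊗ₘ β.inv) ≫ c', ?_⟩
    rw [Category.assoc, hc', ← cm_iso_comp]
    simp

end Basic

section BC

variable {T T' : Scheme.{u}} (ψ : T' ⟶ T)

instance isEquivalence_pullback [IsIso ψ] : (Over.pullback ψ).IsEquivalence :=
  (Over.mapPullbackAdj ψ).isEquivalence_right_of_isEquivalence_left

variable {H A B K : Over T} [GrpObj H]

set_option synthInstance.maxHeartbeats 400000 in
theorem map_cm (a : A ⟶ H) (b : B ⟶ H) :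
    Functor.LaxMonoidal.μ (Over.pullback ψ) A B ≫ (Over.pullback ψ).map (cm a b) =
      cm ((Over.pullback ψ).map a) ((Over.pullback ψ).map b) := by
  have hinv : ∀ {X : Over T} (x : X ⟶ H), (Over.pullback ψ).map x⁻¹ = ((Over.pullback ψ).map x)⁻¹ :=
    fun x => Functor.map_inv' _ _
  have hmul : ∀ {X : Over T} (x y : X ⟶ H), (Over.pullback ψ).map (x * y) =
    ((Over.pullback ψ).map x * (Over.pullback ψ).map y : Red.bc ψ X ⟶ Red.bc ψ H) :=
    fun x y => Functor.map_mul _ _ _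
  rw [cm, hmul, hmul, hmul, hinv, hinv, MonObj.comp_mul, MonObj.comp_mul, MonObj.comp_mul, GrpObj.comp_inv,
    GrpObj.comp_inv, Functor.map_comp, Functor.map_comp, ← Category.assoc, ← Category.assoc,
    Functor.Monoidal.μ_fst, Functor.Monoidal.μ_snd, cm]

theorem isClosedImmersion_of_map [IsIso ψ] {X Y : Over T} (i : X ⟶ Y)
    (h : IsClosedImmersion ((Over.pullback ψ).map i).left) : IsClosedImmersion i.left := by
  have hpb := Groth.Agent.Sga3.H515.GrpModel.isPullback_map_left ψ i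
  have h1 : IsIso (pullback.fst Y.hom ψ) := inferInstance
  have h2 : IsIso (pullback.fst X.hom ψ) := inferInstance
  have h3 : i.left = inv (pullback.fst X.hom ψ) ≫ ((Over.pullback ψ).map i).left ≫ pullback.fst Y.hom ψ := by
    rw [IsIso.eq_inv_comp]; exact (ActBC.pullback_map_left_fst ψ i).symm
  rw [h3]
  infer_instance

theorem IsCm.bc [IsIso ψ] {a : A ⟶ H} {b : B ⟶ H} {e : K ⟶ H} (h : IsCm a b e) :
    IsCm ((Over.pullback ψ).map a) ((Over.pullback ψ).map b) ((Over.pullback ψ).map e) := by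
  refine ⟨?_, fun Γ' _ i' h1 h2 => ?_⟩
  · obtain ⟨c, hc⟩ := h.fac
    exact ⟨Functor.LaxMonoidal.μ (Over.pullback ψ) A B ≫ (Over.pullback ψ).map c, by
      rw [Category.assoc, ← Functor.map_comp, hc, map_cm]⟩
  · rintro ⟨c', hc'⟩
    let β := und (unbcIso ψ Γ')
    obtain ⟨i₁, hi₁⟩ := (Over.pullback ψ).map_surjective (β.hom ≫ i')
    have hm : IsMonHom i₁ := by
      have h3 : IsMonHom ((Over.pullback ψ).map i₁) := by rw [hi₁]; infer_instance
      exact K210.LimHom.isMonHom_of_mul _ ((Over.pullback ψ).map_injective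
        ((K210.LimHom.isMonHom_map_iff ψ i₁).mp h3))
    have hc1 : IsClosedImmersion i₁.left := by
      apply isClosedImmersion_of_map ψ
      rw [hi₁, Over.comp_left]
      infer_instance
    obtain ⟨c₁, hc₁⟩ := (Over.pullback ψ).map_surjective
      (inv (Functor.LaxMonoidal.μ (Over.pullback ψ) A B) ≫ c' ≫ β.inv)
    obtain ⟨j, hj⟩ := h.min _ inferInstance i₁ hm hc1 ⟨c₁, by
      apply (Over.pullback ψ).map_injective
      rw [Functor.map_comp, hc₁, hi₁]
      simp only [Category.assoc, Iso.inv_hom_id_assoc]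
      rw [hc', ← map_cm, IsIso.inv_hom_id_assoc]⟩
    exact ⟨(Over.pullback ψ).map j ≫ β.hom, by
      rw [Category.assoc, ← hi₁, ← Functor.map_comp, hj]⟩

end BC

section Chain

variable {T : Scheme.{u}}

/-- `d : D ⟶ H` is the `n`-th derived subgroup scheme of `H`. -/
def Chain (H : Over T) [GrpObj H] : ℕ → ∀ {D : Over T} [GrpObj D], (D ⟶ H) → Prop
  | 0, _, _, d => IsMonHom d ∧ IsClosedImmersion d.left ∧ IsIso d
  | n + 1, _, _, d => IsMonHom d ∧ IsClosedImmersion d.left ∧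
      ∃ (K : Over T) (_ : GrpObj K) (k : K ⟶ H), Chain H n k ∧ IsCm k k d

variable {H H' D : Over T} [GrpObj H] [GrpObj H'] [GrpObj D] {n : ℕ} {d : D ⟶ H}

theorem Chain.isMonHom (h : Chain H n d) : IsMonHom d := by
  cases n
  · exact h.1
  · exact h.1

theorem Chain.isClosedImmersion (h : Chain H n d) : IsClosedImmersion d.left := by
  cases n
  · exact h.2.1
  · exact h.2.1

theorem Chain.comp_iso (h : Chain H n d) (θ : H ≅ H') [IsMonHom θ.hom] : Chain H' n (d ≫ θ.hom) := by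
  induction n generalizing D with
  | zero =>
    obtain ⟨h1, h2, h3⟩ := h
    refine ⟨inferInstance, ?_, inferInstance⟩
    rw [Over.comp_left]; infer_instance
  | succ n ih =>
    obtain ⟨h1, h2, K, _, k, hk, hc⟩ := h
    refine ⟨inferInstance, ?_, K, _, k ≫ θ.hom, ih hk, hc.comp_iso θ⟩
    rw [Over.comp_left]; infer_instance

theorem Chain.iso_comp (h : Chain H n d) {D' : Over T} [GrpObj D'] (θ : D' ≅ D) [IsMonHom θ.hom] :
    Chain H n (θ.hom ≫ d) := by
  cases n with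
  | zero =>
    obtain ⟨h1, h2, h3⟩ := h
    refine ⟨inferInstance, ?_, inferInstance⟩
    rw [Over.comp_left]; infer_instance
  | succ n =>
    obtain ⟨h1, h2, K, _, k, hk, hc⟩ := h
    refine ⟨inferInstance, ?_, K, _, k, hk, hc.iso_comp θ⟩
    rw [Over.comp_left]; infer_instance

theorem isClosedImmersion_map {T' : Scheme.{u}} (ψ : T' ⟶ T) {X Y : Over T} (i : X ⟶ Y)
    (h : IsClosedImmersion i.left) : IsClosedImmersion ((Over.pullback ψ).map i).left :=
  MorphismProperty.of_isPullback (P := @IsClosedImmersion)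
    (Groth.Agent.Sga3.H515.GrpModel.isPullback_map_left ψ i) h

theorem Chain.bc (h : Chain H n d) {T' : Scheme.{u}} (ψ : T' ⟶ T) [IsIso ψ] :
    Chain (Red.bc ψ H) n (D := Red.bc ψ D) ((Over.pullback ψ).map d) := by
  induction n generalizing D with
  | zero =>
    obtain ⟨h1, h2, h3⟩ := h
    exact ⟨inferInstance, isClosedImmersion_map ψ d h2, inferInstance⟩
  | succ n ih =>
    obtain ⟨h1, h2, K, _, k, hk, hc⟩ := h
    exact ⟨inferInstance, isClosedImmersion_map ψ d h2, Red.bc ψ K, inferInstance, (Over.pullback ψ).map k,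
      ih hk, hc.bc ψ⟩

/-- A subgroup scheme, bundled. -/
structure Sb (H : Over T) [GrpObj H] where
  K : Over T
  grp : GrpObj K
  k : K ⟶ H

/-- The chain as a family. -/
theorem Chain.exists_family (h : Chain H n d) : ∃ F : Fin (n + 1) → Sb H,
    (∀ p, letI := (F p).grp; IsMonHom (F p).k ∧ IsClosedImmersion (F p).k.left) ∧ IsIso (F 0).k ∧
    (∀ p : Fin n, IsCm (F p.castSucc).k (F p.castSucc).k (F p.succ).k) ∧
    F (Fin.last n) = ⟨D, inferInstance, d⟩ := by
  induction n generalizing D with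
  | zero =>
    obtain ⟨h1, h2, h3⟩ := h
    exact ⟨fun _ => ⟨D, inferInstance, d⟩, fun _ => ⟨h1, h2⟩, h3, fun p => p.elim0, rfl⟩
  | succ n ih =>
    obtain ⟨h1, h2, K, _, k, hk, hc⟩ := h
    obtain ⟨F, hF1, hF2, hF3, hF4⟩ := ih hk
    refine ⟨Fin.snoc F ⟨D, inferInstance, d⟩, fun p => ?_, ?_, fun p => ?_, by simp⟩
    · refine Fin.lastCases ?_ (fun q => ?_) p
      · rw [Fin.snoc_last]; exact ⟨h1, h2⟩
      · rw [Fin.snoc_castSucc]; exact hF1 q
    · rw [← Fin.castSucc_zero, Fin.snoc_castSucc]; exact hF2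
    · refine Fin.lastCases ?_ (fun q => ?_) p
      · rw [Fin.succ_last, Fin.snoc_castSucc, Fin.snoc_last, hF4]
        exact hc
      · rw [Fin.succ_castSucc, Fin.snoc_castSucc, Fin.snoc_castSucc]
        exact hF3 q

end Chain

end K210.DerChain
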