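import Groth.Agent.SGA3.K210.DerChain

/-!
# Families of derived subgroup schemes

`IsDer n G D d`: `d : D ⟶ G` is a normal closed subgroup scheme of finite presentation with smooth fibres whose
fibres are the `n`-th derived subgroup schemes of the fibres of `G`. Stability under restriction to opens, isomorphisms.
-/

set_option autoImplicit false
set_option backward.isDefEq.respectTransparency false
set_option backward.defeqAttrib.useBackward true
universe u
open CategoryTheory CategoryTheory.Limits MonoidalCategory CartesianMonoidalCategory MonObj GrpObj AlgebraicGeometry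

namespace K210.DerFam

open Groth.Agent.Sga3B Groth.Agent.Sga3B.RedIso Groth.Agent.Sga3B.BcNat K210.DerChain K210.LimHom

/-- `d` is a family of `n`-th derived subgroups. -/
structure IsDer {W : Scheme.{u}} (n : ℕ) {G D : Over W} [GrpObj G] [GrpObj D] (d : D ⟶ G) : Prop where
  mon : IsMonHom d
  cl : IsClosedImmersion d.left
  nor : AlgGrp.IsNormalHom d
  lfp : LocallyOfFinitePresentation D.hom
  qc : QuasiCompact D.hom
  qs : QuasiSeparated D.hom
  sm : ∀ s : W, Smooth (Red.bc (W.fromSpecResidueField s) D).hom
  ch : ∀ s : W, Chain (Red.bc (W.fromSpecResidueField s) G) n (D := Red.bc (W.fromSpecResidueField s) D)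
    ((Over.pullback (W.fromSpecResidueField s)).map d)

variable {W : Scheme.{u}} {n : ℕ} {G G' D : Over W} [GrpObj G] [GrpObj G'] [GrpObj D] {d : D ⟶ G}

theorem IsDer.comp_iso (h : IsDer n d) (θ : G ≅ G') [IsMonHom θ.hom] : IsDer n (d ≫ θ.hom) := by
  obtain ⟨h1, h2, h3, h4, h5, h6, h7, h8⟩ := h
  refine ⟨inferInstance, ?_, ?_, h4, h5, h6, h7, fun s => ?_⟩
  · rw [Over.comp_left]; infer_instance
  · intro T x y
    obtain ⟨m, hm⟩ := h3 T (x ≫ θ.inv) y
    refine ⟨m, ?_⟩
    have := congr($hm ≫ θ.hom)
    simpa [MonObj.mul_comp, GrpObj.inv_comp] using this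
  · rw [Functor.map_comp]
    have : IsMonHom ((Over.pullback (W.fromSpecResidueField s)).mapIso θ).hom :=
      inferInstanceAs (IsMonHom ((Over.pullback (W.fromSpecResidueField s)).map θ.hom))
    exact (h8 s).comp_iso ((Over.pullback (W.fromSpecResidueField s)).mapIso θ)

theorem IsDer.bc (h : IsDer n d) {W' : Scheme.{u}} (φ : W' ⟶ W) [IsOpenImmersion φ] :
    IsDer n (D := Red.bc φ D) ((Over.pullback φ).map d) := by
  obtain ⟨h1, h2, h3, h4, h5, h6, h7, h8⟩ := h
  have key : ∀ s : W', Spec.map (φ.residueFieldMap s) ≫ W.fromSpecResidueField (φ s) =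
      W'.fromSpecResidueField s ≫ φ := fun s => Scheme.Hom.SpecMap_residueFieldMap_fromSpecResidueField _ _
  have hiso : ∀ s : W', IsIso (φ.residueFieldMap s) := fun s => inferInstance
  refine ⟨inferInstance, isClosedImmersion_map φ d h2, ?_, inferInstance, inferInstance, inferInstance,
    fun s => ?_, fun s => ?_⟩
  · rw [isNormalHom_map_iff]
    obtain ⟨w, hw⟩ := (isNormalHom_iff d).mp h3
    exact ⟨(Over.pullback φ).map w, by rw [← Functor.map_comp, hw]⟩
  · have e := und (fibIso (key s) D)
    have h9 : Smooth (Red.bc (Spec.map (φ.residueFieldMap s)) (Red.bc (W.fromSpecResidueField (φ s)) D)).hom := by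
      have := h7 (φ s)
      exact inferInstanceAs (Smooth (pullback.snd _ _))
    rw [← Over.w e.hom]
    infer_instance
  · have h9 := (h8 (φ s)).bc (Spec.map (φ.residueFieldMap s))
    let θ : Red.bc (Spec.map (φ.residueFieldMap s)) (Red.bc (W.fromSpecResidueField (φ s)) G) ≅
      Red.bc (W'.fromSpecResidueField s) (Red.bc φ G) := (und (fibIso (key s) G)).symm
    have hθ : IsMonHom θ.hom := inferInstanceAs (IsMonHom (und (fibIso (key s) G)).inv)
    have h10 := (h9.comp_iso θ).iso_comp (und (fibIso (key s) D))
    have h11 := fib_nat (key s) d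
    have h12 : (Over.pullback (W'.fromSpecResidueField s)).map ((Over.pullback φ).map d) =
        (und (fibIso (key s) D)).hom ≫ (Over.pullback (Spec.map (φ.residueFieldMap s))).map
          ((Over.pullback (W.fromSpecResidueField (φ s))).map d) ≫ (und (fibIso (key s) G)).symm.hom := by
      have h13 : (und (fibIso (key s) G)).hom ≫ (und (fibIso (key s) G)).symm.hom = 𝟙 _ :=
        (und (fibIso (key s) G)).hom_inv_id
      rw [← Category.assoc, ← h11, Category.assoc, h13, Category.comp_id]
    rw [h12]
    exact h10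

end K210.DerFam
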